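import Groth.Agent.H21Mono.NoEscape
import Mathlib.AlgebraicGeometry.ValuativeCriterion
import Mathlib.AlgebraicGeometry.ZariskisMainTheorem
import Mathlib.RingTheory.FiniteType
import Mathlib.LinearAlgebra.FreeModule.PID

/-!
A monomorphic homomorphism from a diagonalisable group of finite type to a separated group of finite type is a
closed immersion.
-/

set_option autoImplicit false
set_option backward.isDefEq.respectTransparency false
set_option maxHeartbeats 1000000
set_option synthInstance.maxHeartbeats 400000
set_option linter.style.haveILetI false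

universe u

open CategoryTheory CategoryTheory.Limits MonoidalCategory CartesianMonoidalCategory MonObj GrpObj AlgebraicGeometry

namespace Groth.Agent.H21Mono

open Groth.Agent.H21Diag (dpt dpt_mul dpt_one dpt_surjective)

variable {S : Scheme.{u}} {M : Type} [AddCommGroup M] {X : Over S} [GrpObj X]

theorem qmap_dpt {V : Type u} [CommRing V] {D : Type u} [CommRing D] (t : Spec (CommRingCat.of V) ⟶ S)
    (ρ : V →+* D) (χ : Multiplicative M →* V) :
    qmap t ρ ≫ dpt t χ = dpt (Spec.map (CommRingCat.ofHom ρ) ≫ t) (ρ.toMonoidHom.comp χ) := by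
  refine H21Diag.bc_ext ?_
  rw [H21Diag.dpt_fst]
  refine (Category.assoc _ _ _).trans ((congrArg (Spec.map (CommRingCat.ofHom ρ) ≫ ·) (H21Diag.dpt_fst _ _)).trans ?_)
  refine (Spec.map_comp _ _).symm.trans (congrArg Spec.map ?_)
  exact CommRingCat.hom_ext (H21Diag.charRingHom_ext fun m => by simp)

theorem lft_DS (S : Scheme.{u}) (M : Type) [AddCommGroup M] [AddGroup.FG M] :
    LocallyOfFiniteType (Red.DS S M).hom := by
  have h : LocallyOfFiniteType (Red.diag (ULift.{u} ℤ) M).hom := by
    change LocallyOfFiniteType (Spec.map _)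
    rw [HasRingHomProperty.Spec_iff (P := @LocallyOfFiniteType)]
    have : Monoid.FG (Multiplicative M) :=
      have : AddMonoid.FG M := AddGroup.fg_iff_addMonoid_fg.mp inferInstance
      inferInstance
    exact RingHom.finiteType_algebraMap.mpr inferInstance
  exact MorphismProperty.pullback_snd (P := @LocallyOfFiniteType) _ _ h

variable [AddGroup.FG M]

/-- a point whose image is integral has unit values -/
theorem valuation_eq_one [LocallyOfFiniteType X.hom] [QuasiCompact X.hom] (u : Red.DS S M ⟶ X) [IsMonHom u] [Mono u]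
    {V : Type u} [CommRing V] [IsDomain V] [ValuationRing V] {K : Type u} [Field K] [Algebra V K] [IsFractionRing V K]
    (t : Spec (CommRingCat.of V) ⟶ S) (y : Over.mk t ⟶ X) (χ : Multiplicative M →* K)
    (hy : dpt (Spec.map (CommRingCat.ofHom (algebraMap V K)) ≫ t) χ ≫ u = qmap t (algebraMap V K) ≫ y)
    (m : Multiplicative M) : ValuationRing.valuation V K (χ m) = 1 := by
  classical
  let v := ValuationRing.valuation V K
  have hχ0 : ∀ m, v (χ m) ≠ 0 := fun m => (Valuation.ne_zero_iff _).mpr ((Group.isUnit m).map χ).ne_zero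
  let φ : M →+ Additive (ValuationRing.ValueGroup V K)ˣ :=
    MonoidHom.toAdditiveRight ((Units.map v.toMonoidWithZeroHom.toMonoidHom).comp χ.toHomUnits)
  have hφ : ∀ a : M, φ a = 0 ↔ v (χ (Multiplicative.ofAdd a)) = 1 := fun a => by
    constructor
    · intro h
      have h2 := congrArg (fun w : Additive (ValuationRing.ValueGroup V K)ˣ => (w.toMul : ValuationRing.ValueGroup V K)) h
      simpa [φ, v] using h2
    · intro h
      refine Additive.toMul.injective (Units.ext ?_)
      simpa [φ, v] using h
  by_contra hm
  let L := M ⧸ φ.ker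
  let φ' : L →+ Additive (ValuationRing.ValueGroup V K)ˣ := QuotientAddGroup.kerLift φ
  have hφ' : Function.Injective φ' := QuotientAddGroup.kerLift_injective φ
  haveI : UniqueProds (Multiplicative L) :=
    UniqueProds.of_injective_mulHom (AddMonoidHom.toMultiplicativeLeft φ').toMulHom
      (fun a b h => hφ' h) inferInstance
  haveI : Module.Finite ℤ L := by
    haveI : Module.Finite ℤ M := Module.Finite.iff_addGroup_fg.mpr inferInstance
    exact Module.Finite.of_surjective (QuotientAddGroup.mk' φ.ker).toIntLinearMap (QuotientAddGroup.mk'_surjective _)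
  haveI : IsAddTorsionFree L := hφ'.isAddTorsionFree φ'
  haveI : Module.Free ℤ L := inferInstance
  let π : M →+ L := QuotientAddGroup.mk' φ.ker
  obtain ⟨σ, hσ⟩ := Module.projective_lifting_property π.toIntLinearMap (LinearMap.id : L →ₗ[ℤ] L)
    (QuotientAddGroup.mk'_surjective _)
  have hπσ : ∀ l, π (σ l) = l := fun l => LinearMap.congr_fun hσ l
  have hker : ∀ a : M, v (χ (Multiplicative.ofAdd (a - σ (π a)))) = 1 := fun a => by
    rw [← hφ]
    have : π (a - σ (π a)) = 0 := by rw [map_sub, hπσ, sub_self]
    exact (QuotientAddGroup.eq_zero_iff _).mp this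
  choose w hw using fun a : M => exists_of_le_one (V := V) (hker a).le
  let χV : Multiplicative M →* V :=
    { toFun := fun a => w a.toAdd
      map_one' := IsFractionRing.injective V K ((hw _).trans (by simp))
      map_mul' := fun a b => IsFractionRing.injective V K ((hw _).trans (by
        rw [map_mul (algebraMap V K), hw, hw, ← map_mul χ, ← ofAdd_add]
        congr 2
        simp only [toAdd_mul, map_add]
        abel)) }
  let z : Multiplicative L →* K := χ.comp (AddMonoidHom.toMultiplicative σ.toAddMonoidHom)
  have hsplit : χ = (z.comp (AddMonoidHom.toMultiplicative π)) * (algebraMap V K).toMonoidHom.comp χV :=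
    MonoidHom.ext fun a => by
      show χ a = χ (Multiplicative.ofAdd (σ (π a.toAdd))) * algebraMap V K (w a.toAdd)
      rw [hw, ← map_mul, ← ofAdd_add, add_sub_cancel]
      rfl
  haveI : Nontrivial L := nontrivial_of_ne (π m.toAdd) 0 fun h =>
    hm ((hφ m.toAdd).mp ((QuotientAddGroup.eq_zero_iff _).mp h))
  refine not_integral u t (y * (dpt t χV ≫ u)⁻¹) π (QuotientAddGroup.mk'_surjective _) z (fun l hl => ?_) ?_
  · have h1 : φ (σ l.toAdd) = 0 := (hφ _).mpr hl
    have h2 : π (σ l.toAdd) = 0 := (QuotientAddGroup.eq_zero_iff _).mpr h1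
    rw [hπσ] at h2
    exact Multiplicative.toAdd.injective h2
  · have e1 : qmap t (algebraMap V K) ≫ (y * (dpt t χV ≫ u)⁻¹) = (qmap t (algebraMap V K) ≫ y) *
        ((qmap t (algebraMap V K) ≫ dpt t χV) ≫ u)⁻¹ := by
      rw [MonObj.comp_mul, GrpObj.comp_inv, Category.assoc]
    rw [e1, ← hy, qmap_dpt]
    refine eq_mul_inv_iff_mul_eq.mpr ?_
    refine (MonObj.mul_comp _ _ u).symm.trans ?_
    rw [← dpt_mul, ← hsplit]

/-- a monomorphic homomorphism out of a diagonalisable group is a closed immersion -/
theorem isClosedImmersion_of_mono_DS [IsSeparated X.hom] [LocallyOfFiniteType X.hom] [QuasiCompact X.hom]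
    (u : Red.DS S M ⟶ X) [IsMonHom u] [Mono u] : IsClosedImmersion u.left := by
  haveI := H21Diag.isAffineHom_DS S M
  haveI := lft_DS S M
  haveI : IsSeparated (u.left ≫ X.hom) := by rw [Over.w u]; infer_instance
  haveI : QuasiCompact (u.left ≫ X.hom) := by rw [Over.w u]; infer_instance
  haveI : LocallyOfFiniteType (u.left ≫ X.hom) := by rw [Over.w u]; infer_instance
  haveI : IsSeparated u.left := IsSeparated.of_comp u.left X.hom
  haveI : QuasiCompact u.left := QuasiCompact.of_comp u.left X.hom
  haveI : LocallyOfFiniteType u.left := locallyOfFiniteType_of_comp u.left X.hom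
  have hex : ValuativeCriterion.Existence u.left := by
    intro sq
    let t : Spec (CommRingCat.of sq.R) ⟶ S := sq.i₂ ≫ X.hom
    let y : Over.mk t ⟶ X := Over.homMk sq.i₂ rfl
    let x : Over.mk (Spec.map (CommRingCat.ofHom (algebraMap sq.R sq.K)) ≫ t) ⟶ Red.DS S M := Over.homMk sq.i₁ (by
      change sq.i₁ ≫ (Red.DS S M).hom = Spec.map _ ≫ sq.i₂ ≫ X.hom
      rw [← Over.w u, ← Category.assoc, sq.commSq.w, Category.assoc])
    obtain ⟨χ, hχ⟩ := dpt_surjective _ x
    have hy : dpt _ χ ≫ u = qmap t (algebraMap sq.R sq.K) ≫ y := by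
      rw [hχ]
      exact Over.OverMorphism.ext sq.commSq.w
    choose w hw using fun m => exists_of_le_one (V := sq.R) (valuation_eq_one u t y χ hy m).le
    let χV : Multiplicative M →* sq.R :=
      { toFun := w
        map_one' := IsFractionRing.injective sq.R sq.K (by rw [hw, map_one, map_one])
        map_mul' := fun a b => IsFractionRing.injective sq.R sq.K (by rw [map_mul, hw, hw, hw, map_mul]) }
    have hfac : qmap t (algebraMap sq.R sq.K) ≫ dpt t χV = x := by
      rw [qmap_dpt, ← hχ]
      congr 1
      exact MonoidHom.ext fun m => hw m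
    have h1 : Spec.map (CommRingCat.ofHom (algebraMap sq.R sq.K)) ≫ (dpt t χV).left = sq.i₁ :=
      congrArg (fun g => g.left) hfac
    haveI : IsDominant (Spec.map (CommRingCat.ofHom (algebraMap sq.R sq.K))) := ⟨by
      refine (PrimeSpectrum.denseRange_comap_iff_ker_le_nilRadical _).mpr ?_
      show RingHom.ker (algebraMap sq.R sq.K) ≤ _
      rw [(RingHom.injective_iff_ker_eq_bot _).mp (IsFractionRing.injective sq.R sq.K)]
      exact bot_le⟩
    refine ⟨⟨⟨(dpt t χV).left, h1, ?_⟩⟩⟩
    refine ext_of_isDominant_of_isSeparated X.hom ?_ (Spec.map (CommRingCat.ofHom (algebraMap sq.R sq.K))) ?_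
    · rw [Category.assoc, Over.w u]
      exact Over.w (dpt t χV)
    · rw [← Category.assoc, h1, sq.commSq.w]
  haveI : UniversallyClosed u.left := UniversallyClosed.of_valuativeCriterion u.left hex
  haveI : IsProper u.left := {}
  haveI : Mono u.left := inferInstanceAs (Mono ((Over.forget S).map u))
  exact (IsClosedImmersion.iff_isProper_and_mono (f := u.left)).mpr ⟨inferInstance, inferInstance⟩

end Groth.Agent.H21Mono
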