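import Groth.Agent.H21Mono.FactorDS
import Groth.Agent.H19Grp.SchemImage
import Groth.Agent.H21Diag.FpqcLocal
import Groth.Agent.H21Diag.LocSplit
import Groth.Agent.H18Torsor.Basic
import Groth.Prelude.Def_TwC

/-!
The schematic image of a group of multiplicative type of arbitrary type in a separated group of finite
presentation.
-/

set_option autoImplicit false
set_option backward.isDefEq.respectTransparency false
set_option maxHeartbeats 1000000
set_option synthInstance.maxHeartbeats 400000
set_option linter.style.haveILetI false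

universe u

open CategoryTheory CategoryTheory.Limits MonoidalCategory CartesianMonoidalCategory MonObj GrpObj AlgebraicGeometry

namespace Groth.Agent.H21Mono

variable {S T : Scheme.{u}}

/-- the square of a base-changed morphism -/
theorem sqBC (t : T ⟶ S) {A B : Over S} (v : A ⟶ B) :
    IsPullback ((Over.pullback t).map v).left (pullback.fst A.hom t) (pullback.fst B.hom t) v.left := by
  have hfst : ((Over.pullback t).map v).left ≫ pullback.fst B.hom t = pullback.fst A.hom t ≫ v.left :=
    pullback.lift_fst _ _ _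
  have hsnd : ((Over.pullback t).map v).left ≫ pullback.snd B.hom t = pullback.snd A.hom t :=
    pullback.lift_snd _ _ _
  refine IsPullback.of_right ?_ hfst (IsPullback.of_hasPullback B.hom t).flip
  rw [hsnd, Over.w v]
  exact (IsPullback.of_hasPullback A.hom t).flip

/-- transfer along a map of test schemes -/
theorem pullback_snd_of_bc (P : MorphismProperty Scheme.{u}) [P.IsStableUnderBaseChange] {W T₁ : Scheme.{u}}
    {t : T ⟶ S} {k : T₁ ⟶ T} {A B : Over S} (v : A ⟶ B)
    (hP : P ((Over.pullback k).map ((Over.pullback t).map v)).left) (a : W ⟶ B.left) (w : W ⟶ T₁)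
    (h : a ≫ B.hom = (w ≫ k) ≫ t) : P (pullback.snd v.left a) := by
  let b : W ⟶ ((Over.pullback k).obj ((Over.pullback t).obj B)).left :=
    pullback.lift (pullback.lift a (w ≫ k) h) w (pullback.lift_snd _ _ _)
  let c : ((Over.pullback k).obj ((Over.pullback t).obj B)).left ⟶ B.left :=
    pullback.fst _ k ≫ pullback.fst B.hom t
  have sq : IsPullback ((Over.pullback k).map ((Over.pullback t).map v)).left
      (pullback.fst _ k ≫ pullback.fst A.hom t) c v.left :=
    (sqBC k ((Over.pullback t).map v)).paste_vert (sqBC t v)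
  have hb : b ≫ c = a := by
    show b ≫ pullback.fst _ k ≫ pullback.fst B.hom t = a
    rw [pullback.lift_fst_assoc, pullback.lift_fst]
  let l := sq.flip.lift (pullback.fst v.left a) (pullback.snd v.left a ≫ b)
    (by rw [Category.assoc, hb, pullback.condition])
  have sq' : IsPullback l (pullback.snd v.left a) ((Over.pullback k).map ((Over.pullback t).map v)).left b := by
    refine IsPullback.of_right ?_ (sq.flip.lift_snd _ _ _) sq.flip
    rw [hb, sq.flip.lift_fst]
    exact IsPullback.of_hasPullback v.left a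
  exact MorphismProperty.of_isPullback (P := P) sq' hP

/-- two factorisations through closed subschemes, one after an fpqc map, the other after a schematically dominant one -/
theorem exists_iso_of_factor {X Y Q Z : Over S} (q : X ⟶ Y) [Flat q.left] [Surjective q.left] [QuasiCompact q.left]
    (j : Y ⟶ Z) [IsClosedImmersion j.left] (p : X ⟶ Q) [IsSchemeTheoreticallyDominant p.left] (i : Q ⟶ Z)
    [IsClosedImmersion i.left] (h : q ≫ j = p ≫ i) : ∃ ψ : Y ≅ Q, ψ.hom ≫ i = j ∧ q ≫ ψ.hom = p := by
  haveI : Mono i := (Over.forget S).mono_of_mono_map (show Mono i.left from inferInstance)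
  haveI : Mono j := (Over.forget S).mono_of_mono_map (show Mono j.left from inferInstance)
  obtain ⟨ψ, hψ⟩ := H21Rank1.exists_descend q p fun W a b hab => by
    rw [← cancel_mono i, Category.assoc, Category.assoc, ← h, ← Category.assoc, hab, Category.assoc]
  have h1 : ψ ≫ i = j := by
    haveI := H19Grp.epi_over_of_fpqc q
    rw [← cancel_epi q, ← Category.assoc, hψ, h]
  obtain ⟨φ, hφ⟩ := H19Grp.exists_factor_closed p j i q h.symm
  exact ⟨⟨ψ, φ, by rw [← cancel_mono j, Category.assoc, hφ, h1, Category.id_comp],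
    by rw [← cancel_mono i, Category.assoc, h1, hφ, Category.id_comp]⟩, h1, hψ⟩

variable {H G Q : Over S} [GrpObj H] [GrpObj G] [IsSeparated G.hom] [QuasiCompact G.hom]
  [LocallyOfFinitePresentation G.hom]

/-- over a trivialising flat chart, the schematic image is diagonalisable -/
theorem exists_image_chart (f : H ⟶ G) [IsMonHom f] (f' : H ⟶ Q) [IsSchemeTheoreticallyDominant f'.left]
    [QuasiCompact f'.left] (i : Q ⟶ G) [IsClosedImmersion i.left] (hfi : f' ≫ i = f) (t : T ⟶ S) [Flat t]
    {M : Type} [AddCommGroup M] (e : Grp.mk (Red.bc t H) ≅ Grp.mk (Red.DS T M)) (x : T) :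
    ∃ (U : T.Opens) (Λ : AddSubgroup M), x ∈ U ∧ Λ.FG ∧
      Flat ((Over.pullback U.ι).map ((Over.pullback t).map f')).left ∧
      Surjective ((Over.pullback U.ι).map ((Over.pullback t).map f')).left ∧
      ∃ ψ : Red.bc U.ι (Red.DS T Λ) ≅ Red.bc U.ι (Red.bc t Q),
        IsMonHom (ψ.hom ≫ (Over.pullback U.ι).map ((Over.pullback t).map i)) := by
  let c : Red.bc t H ⟶ Red.DS T M := e.hom.hom.hom
  let c' : Red.DS T M ⟶ Red.bc t H := e.inv.hom.hom
  haveI : IsMonHom c' := e.inv.hom.isMonHom_hom
  have hcc' : c ≫ c' = 𝟙 _ := congrArg (fun k => k.hom.hom) e.hom_inv_id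
  have hc'c : c' ≫ c = 𝟙 _ := congrArg (fun k => k.hom.hom) e.inv_hom_id
  haveI : IsIso c' := ⟨c, hc'c, hcc'⟩
  let fT : Red.bc t H ⟶ Red.bc t G := (Over.pullback t).map f
  haveI : IsMonHom fT := H21Diag.isMonHom_bcMap t f
  haveI : IsSeparated (Red.bc t G).hom := MorphismProperty.pullback_snd (P := @IsSeparated) _ _ ‹_›
  haveI : QuasiCompact (Red.bc t G).hom := MorphismProperty.pullback_snd (P := @QuasiCompact) _ _ ‹_›
  haveI : LocallyOfFinitePresentation (Red.bc t G).hom :=
    MorphismProperty.pullback_snd (P := @LocallyOfFinitePresentation) _ _ ‹_›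
  obtain ⟨U, Λ, hx, -, hΛ, -, j, hjh, hjc, hj⟩ := exists_clopen_factor M (c' ≫ fT) x
  haveI := hjh; haveI := hjc
  let qU : Red.bc U.ι (Red.DS T M) ⟶ Red.bc U.ι (Red.DS T Λ) := (Over.pullback U.ι).map (Red.DSmap T Λ.subtype)
  obtain ⟨_, _⟩ := H21Diag.flat_surjective_DSmap T Λ.subtype Subtype.val_injective
  haveI := H21Diag.isAffineHom_DS T Λ
  haveI := H21Diag.isAffineHom_DS T M
  haveI : IsAffineHom ((Red.DSmap T Λ.subtype).left ≫ (Red.DS T Λ).hom) := by rw [Over.w]; infer_instance
  haveI : QuasiCompact (Red.DSmap T Λ.subtype).left := QuasiCompact.of_comp _ (Red.DS T Λ).hom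
  haveI := H21Diag.flat_bcMap U.ι (Red.DSmap T Λ.subtype)
  haveI := H21Diag.surjective_bcMap U.ι (Red.DSmap T Λ.subtype)
  haveI : QuasiCompact qU.left := MorphismProperty.overPullbackMap (P := @QuasiCompact) _ _ ‹_›
  let f₁ : Red.bc t H ⟶ Red.bc t Q := (Over.pullback t).map f'
  let i₁ : Red.bc t Q ⟶ Red.bc t G := (Over.pullback t).map i
  let f₂ : Red.bc U.ι (Red.bc t H) ⟶ Red.bc U.ι (Red.bc t Q) := (Over.pullback U.ι).map f₁
  let i₂ : Red.bc U.ι (Red.bc t Q) ⟶ Red.bc U.ι (Red.bc t G) := (Over.pullback U.ι).map i₁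
  let cU : Red.bc U.ι (Red.DS T M) ⟶ Red.bc U.ι (Red.bc t H) := (Over.pullback U.ι).map c'
  haveI : IsIso cU.left := inferInstanceAs (IsIso ((Over.forget _).map ((Over.pullback U.ι).map c')))
  haveI : IsClosedImmersion i₁.left := MorphismProperty.of_isPullback (P := @IsClosedImmersion) (sqBC t i).flip ‹_›
  haveI : IsClosedImmersion i₂.left :=
    MorphismProperty.of_isPullback (P := @IsClosedImmersion) (sqBC U.ι i₁).flip inferInstance
  haveI : Flat (pullback.fst Q.hom t) := inferInstance
  haveI : IsSchemeTheoreticallyDominant f₁.left := IsSchemeTheoreticallyDominant.of_isPullback (sqBC t f').flip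
  haveI : QuasiCompact f₁.left := MorphismProperty.overPullbackMap (P := @QuasiCompact) _ _ ‹_›
  haveI : Flat (pullback.fst (Red.bc t Q).hom U.ι) := inferInstance
  haveI : IsSchemeTheoreticallyDominant f₂.left :=
    IsSchemeTheoreticallyDominant.of_isPullback (sqBC U.ι f₁).flip
  haveI : IsSchemeTheoreticallyDominant (cU ≫ f₂).left := by rw [Over.comp_left]; infer_instance
  have hw : qU ≫ j = (cU ≫ f₂) ≫ i₂ := by
    rw [← hj, Category.assoc, ← Functor.map_comp, ← Functor.map_comp, ← Functor.map_comp, hfi]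
  obtain ⟨ψ, hψ, hψq⟩ := exists_iso_of_factor qU j (cU ≫ f₂) i₂ hw
  haveI : IsIso ψ.hom.left := inferInstanceAs (IsIso ((Over.forget _).map ψ.hom))
  have hfs : f₂.left = inv cU.left ≫ qU.left ≫ ψ.hom.left := by
    rw [IsIso.eq_inv_comp, ← Over.comp_left, ← hψq, Over.comp_left]
  refine ⟨U, Λ, hx, hΛ, ?_, ?_, ψ, hψ ▸ hjh⟩
  · show Flat f₂.left
    rw [hfs]; infer_instance
  · show Surjective f₂.left
    rw [hfs]
    haveI : Surjective qU.left := H21Diag.surjective_bcMap U.ι (Red.DSmap T Λ.subtype)
    infer_instance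

end Groth.Agent.H21Mono
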