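import Groth.Agent.H21Mono.ImageDescent
import Groth.Agent.H21Hom.Bridge
import Groth.Agent.H21Diag.TransporterSub
import Groth.Prelude.Def_SGA3b

set_option autoImplicit false
set_option backward.isDefEq.respectTransparency false
set_option maxHeartbeats 1000000
set_option synthInstance.maxHeartbeats 400000
set_option linter.style.haveILetI false
universe u
open TensorProduct
open CategoryTheory CategoryTheory.Limits MonoidalCategory CartesianMonoidalCategory MonObj GrpObj AlgebraicGeometry

namespace Groth.Agent.H21Mono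

theorem fg_of_lft_DS {T : Scheme.{u}} [Nonempty T] (M : Type) [AddCommGroup M]
    [LocallyOfFiniteType (Red.DS T M).hom] : AddGroup.FG M := by
  obtain ⟨x⟩ := (inferInstance : Nonempty T)
  let K : Type u := (T.residueField x : Type u)
  let g : Spec (CommRingCat.of K) ⟶ T := T.fromSpecResidueField x
  haveI h1 : LocallyOfFiniteType (Red.bc g (Red.DS T M)).hom :=
    MorphismProperty.pullback_snd (P := @LocallyOfFiniteType) _ _ inferInstance
  let e := H21Diag.bcDSIso g M
  have := H21Diag.isIso_diagToDS K M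
  haveI : IsIso (H21Diag.diagToDS K M).left := inferInstanceAs (IsIso ((Over.forget _).map (H21Diag.diagToDS K M)))
  haveI : IsIso e.inv.hom.hom.left := inferInstanceAs (IsIso ((Over.forget _).map ((Grp.forget _).map e.inv)))
  have h2 : LocallyOfFiniteType (Red.diag K M).hom := by
    rw [← Over.w (H21Diag.diagToDS K M), ← Over.w e.inv.hom.hom]
    infer_instance
  have h3 : LocallyOfFiniteType (Spec.map (CommRingCat.ofHom (algebraMap K (MonoidAlgebra K (Multiplicative M))))) := h2
  rw [HasRingHomProperty.Spec_iff (P := @LocallyOfFiniteType)] at h3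
  have : Monoid.FG (Multiplicative M) := MonoidAlgebra.finiteType_iff_fg.1 (RingHom.finiteType_algebraMap.mp h3)
  exact AddGroup.fg_iff_addMonoid_fg.mpr (AddMonoid.fg_iff_mul_fg.mpr this)

theorem isMultTypeFT_of_locDS {S : Scheme.{u}} {H : Over S} [GrpObj H] (hH : LocDS H)
    [LocallyOfFiniteType H.hom] : SGA3x.IsMultTypeFT H := by
  obtain ⟨S', f, hf, hs, hqc, hloc⟩ := hH
  refine ⟨S', f, hf, hs, hqc, fun s' => ?_⟩
  obtain ⟨U, hsU, M, _, ⟨e⟩⟩ := hloc s'
  refine ⟨U, hsU, M, inferInstance, ?_, ⟨e⟩⟩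
  haveI : Nonempty U := ⟨⟨s', hsU⟩⟩
  haveI : LocallyOfFiniteType (Red.bc (U.ι ≫ f) H).hom :=
    MorphismProperty.pullback_snd (P := @LocallyOfFiniteType) _ _ inferInstance
  haveI : IsIso e.inv.hom.hom.left := inferInstanceAs (IsIso ((Over.forget _).map ((Grp.forget _).map e.inv)))
  haveI : LocallyOfFiniteType (Red.DS (U : Scheme.{u}) M).hom := by
    rw [← Over.w e.inv.hom.hom]; infer_instance
  exact fg_of_lft_DS (T := (U : Scheme.{u})) M

theorem finiteType_of_tensor_quot {R : Type u} [CommRing R] {J : Ideal R} (hJ : IsNilpotent J)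
    (A : Type u) [CommRing A] [Algebra R A] (h : Algebra.FiniteType (R ⧸ J) ((R ⧸ J) ⊗[R] A)) :
    Algebra.FiniteType R A := by
  classical
  haveI : Algebra.FiniteType R (R ⧸ J) := Algebra.FiniteType.of_surjective (Algebra.ofId R (R ⧸ J))
    Ideal.Quotient.mk_surjective
  haveI := h
  haveI : Algebra.FiniteType R ((R ⧸ J) ⊗[R] A) := Algebra.FiniteType.trans inferInstance h
  let π : A →ₐ[R] (R ⧸ J) ⊗[R] A := Algebra.TensorProduct.includeRight
  have hπ : Function.Surjective π := fun z => by
    induction z using TensorProduct.induction_on with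
    | zero => exact ⟨0, map_zero π⟩
    | tmul r a =>
      obtain ⟨r, rfl⟩ := Ideal.Quotient.mk_surjective r
      refine ⟨r • a, ?_⟩
      simp [π, Algebra.TensorProduct.includeRight, Algebra.smul_def]
      rw [← Algebra.smul_def, ← TensorProduct.smul_tmul]
      simp [Algebra.smul_def]
    | add x y hx hy =>
      obtain ⟨a, rfl⟩ := hx
      obtain ⟨b, rfl⟩ := hy
      exact ⟨a + b, map_add π a b⟩
  obtain ⟨s, hs⟩ := (inferInstance : Algebra.FiniteType R ((R ⧸ J) ⊗[R] A)).out
  choose σ hσ using hπ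
  let D : Subalgebra R A := Algebra.adjoin R ((s.image σ : Finset A) : Set A)
  have h1 : (⊤ : Submodule R A) ≤ Subalgebra.toSubmodule D ⊔ J • ⊤ := by
    intro a _
    have hmap : D.map π = ⊤ := by
      rw [eq_top_iff, ← hs, Algebra.adjoin_le_iff]
      intro c hc
      exact ⟨σ c, Algebra.subset_adjoin (Finset.mem_coe.mpr (Finset.mem_image_of_mem σ hc)), hσ c⟩
    obtain ⟨d, hd, hda⟩ : π a ∈ D.map π := hmap ▸ trivial
    refine Submodule.mem_sup.mpr ⟨d, hd, a - d, ?_, by abel⟩
    have h0 : (1 : R ⧸ J) ⊗ₜ[R] (a - d) = 0 := by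
      rw [TensorProduct.tmul_sub]; exact sub_eq_zero.mpr hda.symm
    have := congrArg (TensorProduct.quotTensorEquivQuotSMul A J) h0
    rw [map_zero, show (1 : R ⧸ J) = Ideal.Quotient.mk J 1 from rfl,
      TensorProduct.quotTensorEquivQuotSMul_mk_tmul, one_smul, Submodule.Quotient.mk_eq_zero] at this
    exact this
  have h2 : ∀ k : ℕ, (⊤ : Submodule R A) ≤ Subalgebra.toSubmodule D ⊔ (J ^ k) • ⊤ := by
    intro k
    induction k with
    | zero => rw [pow_zero, Submodule.one_smul]; exact le_sup_right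
    | succ k ih =>
      calc (⊤ : Submodule R A) ≤ Subalgebra.toSubmodule D ⊔ (J ^ k) • ⊤ := ih
        _ ≤ Subalgebra.toSubmodule D ⊔ (J ^ k) • (Subalgebra.toSubmodule D ⊔ J • ⊤) :=
          sup_le_sup le_rfl (Submodule.smul_mono le_rfl h1)
        _ ≤ _ := by
          rw [Submodule.smul_sup, ← sup_assoc, pow_succ, Submodule.mul_smul]
          exact sup_le_sup (sup_le le_rfl Submodule.smul_le_right) le_rfl
  obtain ⟨n, hn⟩ := hJ
  refine ⟨⟨s.image σ, eq_top_iff.mpr fun a _ => ?_⟩⟩
  have := h2 n (Submodule.mem_top (x := a))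
  rw [hn] at this
  rw [Submodule.zero_eq_bot, Submodule.bot_smul, sup_bot_eq] at this
  exact this

theorem isMultType_of_isQuasiIsotrivial {R : Type u} [CommRing R] {A : Type u} [CommRing A] [HopfAlgebra R A]
    (h : SGA3b.IsQuasiIsotrivial R A) : SGA3b.IsMultType R A := by
  obtain ⟨s, hs, h⟩ := h
  refine ⟨s, hs, fun f hf => ?_⟩
  obtain ⟨R', _, _, -, hff, hd⟩ := h f hf
  exact ⟨R', inferInstance, inferInstance, hff, hd⟩

open H21Diag in
/-- the pairing given by a homomorphism of base changes -/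
theorem exists_pairing {S S₀ : Scheme.{u}} (q : S₀ ⟶ S) {H G : Over S} [GrpObj H] [GrpObj G]
    (w : Red.bc q H ⟶ Red.bc q G) [IsMonHom w] :
    ∃ φ₀ : (Over.mk q : Over S) ⊗ H ⟶ G,
      (∀ (X : Over S) (p : X ⟶ Over.mk q) (a b : X ⟶ H),
        lift p (a * b) ≫ φ₀ = (lift p a ≫ φ₀) * (lift p b ≫ φ₀)) ∧
      ∀ f : H ⟶ G, (∀ (X : Over S) (p : X ⟶ Over.mk q) (a : X ⟶ H), a ≫ f = lift p a ≫ φ₀) →
        (Over.pullback q).map f = w := by
  let P : Over S₀ := Over.mk (fst (Over.mk q : Over S) H).left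
  let c : ((Over.mk q : Over S) ⊗ H).left ⟶ (Red.bc q H).left :=
    pullback.lift (snd (Over.mk q : Over S) H).left (fst (Over.mk q : Over S) H).left
      (by rw [Over.w]; exact (Over.w (fst (Over.mk q : Over S) H)).symm)
  have hc₁ : c ≫ pullback.fst H.hom q = (snd (Over.mk q : Over S) H).left := pullback.lift_fst _ _ _
  have hc₂ : c ≫ pullback.snd H.hom q = (fst (Over.mk q : Over S) H).left := pullback.lift_snd _ _ _
  let φ₀ : (Over.mk q : Over S) ⊗ H ⟶ G := Over.homMk (c ≫ w.left ≫ pullback.fst G.hom q) (by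
    rw [Category.assoc, Category.assoc, pullback.condition]
    have hw : w.left ≫ pullback.snd G.hom q = pullback.snd H.hom q := Over.w w
    rw [reassoc_of% hw, reassoc_of% hc₂]
    exact Over.w (fst (Over.mk q : Over S) H))
  have hl : ∀ (X : Over S) (p : X ⟶ Over.mk q) (a : X ⟶ H) (hh : a.left ≫ H.hom = p.left ≫ q),
      (lift p a ≫ φ₀).left = pullback.lift a.left p.left hh ≫ w.left ≫ pullback.fst G.hom q := by
    intro X p a hh
    have h1 : (lift p a).left ≫ c = pullback.lift a.left p.left hh := by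
      apply pullback.hom_ext
      · rw [Category.assoc, hc₁, pullback.lift_fst, ← Over.comp_left, lift_snd]
      · rw [Category.assoc, hc₂, pullback.lift_snd, ← Over.comp_left, lift_fst]
    rw [Over.comp_left, ← h1, Category.assoc]
    rfl
  refine ⟨φ₀, fun X p a b => ?_, fun f hf => ?_⟩
  · have hpq : p.left ≫ q = X.hom := Over.w p
    let Y : Over S₀ := Over.mk p.left
    let eX : X ⟶ (Over.map q).obj Y := Over.homMk (𝟙 _) (by simpa [Y] using hpq)
    let eY : (Over.map q).obj Y ⟶ X := Over.homMk (𝟙 _) (by simpa [Y] using hpq.symm)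
    have he : eX ≫ eY = 𝟙 X := Over.OverMorphism.ext (Category.id_comp _)
    let ψ : (X ⟶ H) → (X ⟶ G) := fun d => eX ≫ (bcEquiv q G Y).symm (bcEquiv q H Y (eY ≫ d) ≫ w)
    have hψ : ∀ d, lift p d ≫ φ₀ = ψ d := fun d => by
      refine Over.OverMorphism.ext ?_
      have hd : d.left ≫ H.hom = p.left ≫ q := (Over.w d).trans hpq.symm
      rw [hl X p d hd]
      have h2 := bcEquiv_left_fst q G Y ((bcEquiv q G Y).symm (bcEquiv q H Y (eY ≫ d) ≫ w))
      rw [Equiv.apply_symm_apply] at h2
      have h3 : (bcEquiv q H Y (eY ≫ d)).left = pullback.lift d.left p.left hd := by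
        apply pullback.hom_ext
        · rw [pullback.lift_fst, bcEquiv_left_fst]; exact Category.id_comp _
        · rw [pullback.lift_snd]; exact Over.w (bcEquiv q H Y (eY ≫ d))
      rw [Over.comp_left, show eX.left = 𝟙 X.left from rfl]
      refine Eq.trans ?_ (Category.id_comp _).symm
      rw [← h2, Over.comp_left, h3, Category.assoc]
    rw [hψ, hψ, hψ]
    simp only [ψ, MonObj.comp_mul, bcEquiv_mul, MonObj.mul_comp, bcEquiv_symm_mul]
  · refine bc_ext ?_
    let X : Over S := (Over.map q).obj (Red.bc q H)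
    let p : X ⟶ Over.mk q := Over.homMk (pullback.snd H.hom q) rfl
    let a : X ⟶ H := Over.homMk (pullback.fst H.hom q) pullback.condition
    have h1 : (a ≫ f).left = (lift p a ≫ φ₀).left := congrArg (fun z : X ⟶ G => z.left) (hf X p a)
    rw [hl X p a pullback.condition] at h1
    have h2 : pullback.lift a.left p.left (pullback.condition : a.left ≫ H.hom = p.left ≫ q) = 𝟙 _ := by
      apply pullback.hom_ext
      · rw [pullback.lift_fst, Category.id_comp]; rfl
      · rw [pullback.lift_snd, Category.id_comp]; rfl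
    rw [h2, Category.id_comp] at h1
    rw [← h1]
    exact pullback.lift_fst _ _ _

end Groth.Agent.H21Mono
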