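import Groth.Agent.H21Mono.ClosedImmersion
import Groth.Agent.H21Diag.DSKernelGen
import Groth.Agent.H21Diag.SplitSubtori
import Groth.Agent.H21Rank1.CellExt
import Groth.Agent.H21Hom.ExtensionComm

/-!
Local factorisation of a homomorphism out of a diagonalisable group of arbitrary type through a closed
diagonalisable subgroup of finite type.
-/

set_option autoImplicit false
set_option backward.isDefEq.respectTransparency false
set_option maxHeartbeats 1000000
set_option synthInstance.maxHeartbeats 400000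
set_option linter.style.haveILetI false

universe u

open CategoryTheory CategoryTheory.Limits MonoidalCategory CartesianMonoidalCategory MonObj GrpObj AlgebraicGeometry

namespace Groth.Agent.H21Mono

variable {S : Scheme.{u}}

/-- A homomorphism with the same kernel as an fpqc quotient map factors through it by a monomorphism. -/
theorem exists_mono_desc_qc {G Q X : Over S} [GrpObj G] [GrpObj Q] [GrpObj X] (q : G ⟶ Q) [IsMonHom q]
    [Flat q.left] [Surjective q.left] [QuasiCompact q.left] (f : G ⟶ X) [IsMonHom f]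
    (h : ∀ (T : Over S) (x : T ⟶ G), x ≫ f = 1 ↔ x ≫ q = 1) :
    ∃ j : Q ⟶ X, IsMonHom j ∧ Mono j ∧ q ≫ j = f := by
  obtain ⟨j, hj⟩ := H21Rank1.exists_descend q f fun T a b hab =>
    (H21Quot.inv_mul_comp_eq_one f a b).mp ((h T _).mpr ((H21Quot.inv_mul_comp_eq_one q a b).mpr hab))
  haveI := H19Grp.epi_over_of_fpqc q
  haveI := H19Grp.epi_tensorHom_of_fpqc q q
  haveI : IsMonHom j := by
    refine ⟨?_, ?_⟩
    · rw [← IsMonHom.one_hom (f := q), Category.assoc, hj, IsMonHom.one_hom]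
    · rw [← cancel_epi (q ⊗ₘ q), ← Category.assoc, ← IsMonHom.mul_hom (f := q), Category.assoc, hj,
        IsMonHom.mul_hom, ← Category.assoc, tensorHom_comp_tensorHom, hj]
  refine ⟨j, inferInstance, ⟨fun {T} a b hab => ?_⟩, hj⟩
  obtain ⟨T', p, c, hp, hc⟩ := H21Hom.exists_lift_cover (p := q) (a⁻¹ * b)
  haveI := hp
  haveI : Epi p := Over.epi_of_epi_left p
  have h1 : (a⁻¹ * b) ≫ j = 1 := (H21Quot.inv_mul_comp_eq_one j a b).mpr hab
  have h2 : c ≫ f = 1 := by rw [← hj, ← Category.assoc, ← hc, Category.assoc, h1, MonObj.comp_one]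
  have h3 : p ≫ (a⁻¹ * b) = p ≫ 1 := by rw [hc, (h T' c).mp h2, MonObj.comp_one]
  exact inv_mul_eq_one.mp ((cancel_epi p).mp h3)

/-- near every point a homomorphism out of `D(M)` factors through a closed immersion of a `D(Λ)` -/
theorem exists_clopen_factor (M : Type) [AddCommGroup M] {G : Over S} [GrpObj G] [IsSeparated G.hom]
    [QuasiCompact G.hom] [LocallyOfFinitePresentation G.hom] (f : Red.DS S M ⟶ G) [IsMonHom f] (s : S) :
    ∃ (U : S.Opens) (Λ : AddSubgroup M), s ∈ U ∧ IsClosed (U : Set S) ∧ Λ.FG ∧ H21Diag.KerEq f Λ (U : Set S) ∧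
      ∃ j : Red.bc U.ι (Red.DS S Λ) ⟶ Red.bc U.ι G, IsMonHom j ∧ IsClosedImmersion j.left ∧
        (Over.pullback U.ι).map f = (Over.pullback U.ι).map (Red.DSmap S Λ.subtype) ≫ j := by
  obtain ⟨Λ, U, hΛ, hsU, hU, hK⟩ := H21Diag.exists_clopen_kerEq_gen f s
  refine ⟨U, Λ, hsU, hU, hΛ, @hK, ?_⟩
  haveI : AddGroup.FG Λ := (AddGroup.fg_iff_addSubgroup_fg _).mpr hΛ
  let qΛ : Red.DS S M ⟶ Red.DS S Λ := Red.DSmap S Λ.subtype
  obtain ⟨_, _⟩ := H21Diag.flat_surjective_DSmap S Λ.subtype Subtype.val_injective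
  haveI := H21Diag.isAffineHom_DS S Λ
  haveI := H21Diag.isAffineHom_DS S M
  haveI : IsAffineHom (qΛ.left ≫ (Red.DS S Λ).hom) := by rw [Over.w qΛ]; infer_instance
  haveI : QuasiCompact qΛ.left := QuasiCompact.of_comp qΛ.left (Red.DS S Λ).hom
  let qU : Red.bc U.ι (Red.DS S M) ⟶ Red.bc U.ι (Red.DS S Λ) := (Over.pullback U.ι).map qΛ
  let fU : Red.bc U.ι (Red.DS S M) ⟶ Red.bc U.ι G := (Over.pullback U.ι).map f
  haveI : IsMonHom qU := H21Diag.isMonHom_bcMap U.ι qΛ
  haveI : IsMonHom fU := H21Diag.isMonHom_bcMap U.ι f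
  haveI := H21Diag.flat_bcMap U.ι qΛ
  haveI := H21Diag.surjective_bcMap U.ι qΛ
  haveI : QuasiCompact qU.left := MorphismProperty.overPullbackMap (P := @QuasiCompact) _ _ ‹_›
  obtain ⟨j, hjh, hjm, hj⟩ := exists_mono_desc_qc qU fU fun T x => by
    rw [H21Diag.comp_bcMap_eq_one_iff, H21Diag.comp_bcMap_eq_one_iff]
    refine hK ?_ _
    rintro _ ⟨z, rfl⟩
    exact (T.hom.base z).2
  refine ⟨j, hjh, ?_, hj.symm⟩
  let χ := H21Diag.bcDSIso U.ι Λ
  let c' : Red.DS (U : Scheme.{u}) Λ ⟶ Red.bc U.ι (Red.DS S Λ) := χ.inv.hom.hom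
  haveI : IsIso c' := ⟨χ.hom.hom.hom, congrArg (fun k => k.hom.hom) χ.inv_hom_id,
    congrArg (fun k => k.hom.hom) χ.hom_inv_id⟩
  haveI : IsMonHom c' := χ.inv.hom.isMonHom_hom
  haveI : IsIso c'.left := inferInstanceAs (IsIso ((Over.forget _).map c'))
  haveI : IsSeparated (Red.bc U.ι G).hom := MorphismProperty.pullback_snd (P := @IsSeparated) _ _ ‹_›
  haveI : QuasiCompact (Red.bc U.ι G).hom := MorphismProperty.pullback_snd (P := @QuasiCompact) _ _ ‹_›
  haveI : LocallyOfFiniteType (Red.bc U.ι G).hom :=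
    MorphismProperty.pullback_snd (P := @LocallyOfFiniteType) _ _ inferInstance
  have h := isClosedImmersion_of_mono_DS (c' ≫ j)
  rw [Over.comp_left] at h
  exact (MorphismProperty.cancel_left_of_respectsIso (P := @IsClosedImmersion) _ _).mp h

end Groth.Agent.H21Mono
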