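import Mathlib.RingTheory.Valuation.ValuationRing
import Mathlib.Algebra.MonoidAlgebra.Basic
import Mathlib.Algebra.MonoidAlgebra.NoZeroDivisors
import Mathlib.RingTheory.LocalRing.ResidueField.Basic
import Mathlib.Tactic.LinearCombination
import Mathlib.Data.Set.Finite.Lattice

/-!
Residues of translates of rational functions on a torus over a valuation ring: for all but finitely many
translates, an integral translate has a constant residue.
-/

set_option autoImplicit false

universe u

namespace Groth.Agent.H21Mono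

open MonoidAlgebra

variable {V : Type u} [CommRing V] [IsDomain V] [ValuationRing V] {K : Type u} [Field K] [Algebra V K]
  [IsFractionRing V K] {G : Type} [CommGroup G]

local notation "v" => ValuationRing.valuation V K

theorem exists_of_le_one {x : K} (h : v x ≤ 1) : ∃ a : V, algebraMap V K a = x :=
  (ValuationRing.mem_integer_iff V K x).mp h

theorem le_one_algebraMap (a : V) : v (algebraMap V K a) ≤ 1 :=
  (ValuationRing.mem_integer_iff V K _).mpr ⟨a, rfl⟩

theorem isUnit_iff_eq_one (a : V) : IsUnit a ↔ v (algebraMap V K a) = 1 := by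
  constructor
  · rintro ⟨w, rfl⟩
    refine le_antisymm (le_one_algebraMap _) ?_
    have h : v (algebraMap V K w) * v (algebraMap V K (w⁻¹ : Vˣ)) = 1 := by
      rw [← map_mul, ← map_mul, Units.mul_inv, map_one, map_one]
    rw [← h]
    exact mul_le_of_le_one_right' (le_one_algebraMap _)
  · intro h
    have h0 : algebraMap V K a ≠ 0 := fun e => by simp [e] at h
    obtain ⟨b, hb⟩ := exists_of_le_one (V := V) (x := (algebraMap V K a)⁻¹) (by rw [map_inv₀, h, inv_one])
    refine IsUnit.of_mul_eq_one b (IsFractionRing.injective V K ?_)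
    rw [map_mul, hb, mul_inv_cancel₀ h0, map_one]

theorem residue_eq_zero_iff (a : V) : IsLocalRing.residue V a = 0 ↔ v (algebraMap V K a) < 1 := by
  rw [IsLocalRing.residue_eq_zero_iff, IsLocalRing.mem_maximalIdeal, mem_nonunits_iff, isUnit_iff_eq_one (K := K),
    lt_iff_le_and_ne]
  exact ⟨fun h => ⟨le_one_algebraMap _, h⟩, fun h => h.2⟩

/-- scaling the monomials by a character -/
noncomputable def twist (c : G →* K) : MonoidAlgebra K G →ₐ[K] MonoidAlgebra K G :=
  MonoidAlgebra.lift K (MonoidAlgebra K G) G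
    { toFun := fun l => single l (c l)
      map_one' := by simp [one_def]
      map_mul' := fun l l' => by simp [single_mul_single] }

theorem twist_single (c : G →* K) (l : G) (a : K) : twist c (single l a) = single l (a * c l) := by
  simp [twist, smul_single']

theorem coeff_twist (c : G →* K) (f : MonoidAlgebra K G) (l : G) : (twist c f).coeff l = c l * f.coeff l := by
  classical
  induction f using MonoidAlgebra.induction with
  | zero => simp
  | single_add a b f _ _ ih =>
    rw [map_add, coeff_add, coeff_add, Finsupp.add_apply, Finsupp.add_apply, ih, twist_single, mul_add,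
      coeff_single, coeff_single, Finsupp.single_apply, Finsupp.single_apply]
    split_ifs with h
    · subst h; ring
    · ring

/-- normal form of an element with a dominant monomial -/
theorem exists_normal (f : MonoidAlgebra K G) (i : G) (hi : f.coeff i ≠ 0)
    (h : ∀ l, l ≠ i → v (f.coeff l) < v (f.coeff i)) :
    ∃ p : MonoidAlgebra V G, f = single 1 (f.coeff i) * mapRingHom G (algebraMap V K) p ∧
      mapRingHom G (IsLocalRing.residue V) p = single i 1 := by
  classical
  have hvi : v (f.coeff i) ≠ 0 := (Valuation.ne_zero_iff _).mpr hi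
  have hle : ∀ l, v (f.coeff l / f.coeff i) ≤ 1 := fun l => by
    rw [map_div₀]
    refine div_le_one_of_le₀ ?_ zero_le
    rcases eq_or_ne l i with rfl | hl
    · exact le_rfl
    · exact (h l hl).le
  choose a ha using fun l => exists_of_le_one (hle l)
  refine ⟨ofCoeff (Finsupp.onFinset f.coeff.support a fun l hl => ?_), ?_, ?_⟩
  · rw [Finsupp.mem_support_iff]
    intro e
    exact hl (IsFractionRing.injective V K ((ha l).trans (by rw [e, zero_div, map_zero])))
  · refine MonoidAlgebra.ext (Finsupp.ext fun l => ?_)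
    rw [coeff_single_one_mul, coeff_mapRingHom]
    show _ = f.coeff i * algebraMap V K (a l)
    rw [ha, mul_div_cancel₀ _ hi]
  · refine MonoidAlgebra.ext (Finsupp.ext fun l => ?_)
    rw [coeff_mapRingHom, coeff_single, Finsupp.single_apply]
    show IsLocalRing.residue V (a l) = _
    split_ifs with hl
    · subst hl
      have : a i = 1 := IsFractionRing.injective V K (by rw [ha, div_self hi, map_one])
      rw [this, map_one]
    · rw [residue_eq_zero_iff (K := K), ha, map_div₀, div_lt_one₀ (zero_lt_iff.mpr hvi)]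
      exact h l (Ne.symm hl)

variable {z : G →* K}

/-- two monomials have the same weight at one translate at most -/
theorem finite_tie (hz : ∀ l, v (z l) = 1 → l = 1) {l i : G} (hli : l ≠ i) {a b : K} (ha : a ≠ 0) (hb : b ≠ 0) :
    {k : ℕ | v ((z l) ^ k * a) = v ((z i) ^ k * b)}.Finite := by
  have hz0 : ∀ l, z l ≠ 0 := fun l => ((Group.isUnit l).map z).ne_zero
  refine Set.Subsingleton.finite ?_
  have key : ∀ k k' : ℕ, k < k' → v ((z l) ^ k * a) = v ((z i) ^ k * b) →
      v ((z l) ^ k' * a) ≠ v ((z i) ^ k' * b) := by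
    intro k k' hk e e'
    obtain ⟨d, rfl⟩ := Nat.exists_eq_add_of_lt hk
    have hx : v (z (l / i)) = 1 := by
      have e0 : v (z (l / i)) ^ (d + 1) = 1 := by
        rw [map_div z, map_div₀, div_pow, div_eq_one_iff_eq (pow_ne_zero _ ((Valuation.ne_zero_iff _).mpr (hz0 i)))]
        have h1 : v (z l) ^ (d + 1) * v ((z l) ^ k * a) = v (z i) ^ (d + 1) * v ((z i) ^ k * b) := by
          calc v (z l) ^ (d + 1) * v ((z l) ^ k * a) = v ((z l) ^ (k + d + 1) * a) := by
                simp only [map_mul, map_pow, ← mul_assoc, ← pow_add]; ring_nf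
            _ = v ((z i) ^ (k + d + 1) * b) := e'
            _ = v (z i) ^ (d + 1) * v ((z i) ^ k * b) := by
                simp only [map_mul, map_pow, ← mul_assoc, ← pow_add]; ring_nf
        rw [e] at h1
        exact mul_right_cancel₀ ((Valuation.ne_zero_iff _).mpr (mul_ne_zero (pow_ne_zero _ (hz0 i)) hb)) h1
      rcases lt_trichotomy (v (z (l / i))) 1 with hlt | heq | hgt
      · exact absurd e0 (pow_lt_one₀ zero_le hlt (Nat.succ_ne_zero d)).ne
      · exact heq
      · exact absurd e0 (one_lt_pow₀ hgt (Nat.succ_ne_zero d)).ne'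
    exact hli (div_eq_one.mp (hz _ hx))
  intro k hk k' hk'
  rcases lt_trichotomy k k' with h | h | h
  · exact absurd hk' (key k k' h hk)
  · exact h
  · exact absurd hk (key k' k h hk')

/-- outside a finite set of translates one monomial dominates -/
theorem exists_finite_dominant (hz : ∀ l, v (z l) = 1 → l = 1) (f : MonoidAlgebra K G) (hf : f ≠ 0) :
    ∃ E : Set ℕ, E.Finite ∧ ∀ k ∉ E, ∃ i, f.coeff i ≠ 0 ∧
      ∀ l, l ≠ i → v ((twist (z ^ k) f).coeff l) < v ((twist (z ^ k) f).coeff i) := by
  classical
  refine ⟨⋃ p ∈ {p ∈ f.coeff.support ×ˢ f.coeff.support | p.1 ≠ p.2},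
    {k : ℕ | v ((z p.1) ^ k * f.coeff p.1) = v ((z p.2) ^ k * f.coeff p.2)}, ?_, ?_⟩
  · refine Set.Finite.biUnion (Finset.finite_toSet _) fun p hp => ?_
    · obtain ⟨hp, hne⟩ := Finset.mem_filter.mp hp
      rw [Finset.mem_product, Finsupp.mem_support_iff, Finsupp.mem_support_iff] at hp
      exact finite_tie hz hne hp.1 hp.2
  intro k hk
  have hne : f.coeff.support.Nonempty := Finsupp.support_nonempty_iff.mpr (by simpa using hf)
  obtain ⟨i, hi, hmax⟩ := Finset.exists_max_image _ (fun l => v ((twist (z ^ k) f).coeff l)) hne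
  refine ⟨i, Finsupp.mem_support_iff.mp hi, fun l hl => ?_⟩
  have hz0 : ∀ l, z l ≠ 0 := fun l => ((Group.isUnit l).map z).ne_zero
  have hfi := Finsupp.mem_support_iff.mp hi
  rcases eq_or_ne (f.coeff l) 0 with h0 | h0
  · rw [coeff_twist, h0, mul_zero, map_zero, coeff_twist, MonoidHom.pow_apply, zero_lt_iff, Valuation.ne_zero_iff]
    exact mul_ne_zero (pow_ne_zero _ (hz0 i)) hfi
  · refine lt_of_le_of_ne (hmax l (Finsupp.mem_support_iff.mpr h0)) fun e => hk ?_
    refine Set.mem_biUnion (show (l, i) ∈ {p ∈ f.coeff.support ×ˢ f.coeff.support | p.1 ≠ p.2} from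
      Finset.mem_filter.mpr ⟨Finset.mem_product.mpr ⟨Finsupp.mem_support_iff.mpr h0, hi⟩, hl⟩) ?_
    simpa [coeff_twist] using e

variable [UniqueProds G]

/-- for almost all translates, an integral translate of a rational function has constant residue -/
theorem exists_finite_residue_const (hz : ∀ l, v (z l) = 1 → l = 1) (f g : MonoidAlgebra K G) (hg : g ≠ 0) :
    ∃ E : Set ℕ, E.Finite ∧ ∀ k ∉ E, ∀ p q : MonoidAlgebra V G, mapRingHom G (IsLocalRing.residue V) q ≠ 0 →
      mapRingHom G (algebraMap V K) p * twist (z ^ k) g = mapRingHom G (algebraMap V K) q * twist (z ^ k) f →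
      ∃ e : IsLocalRing.ResidueField V, mapRingHom G (IsLocalRing.residue V) p =
        single 1 e * mapRingHom G (IsLocalRing.residue V) q := by
  classical
  have hinj : Function.Injective (mapRingHom G (algebraMap V K)) := fun a b h =>
    MonoidAlgebra.ext (Finsupp.ext fun l => IsFractionRing.injective V K (by
      rw [← coeff_mapRingHom, ← coeff_mapRingHom, h]))
  have hz0 : ∀ l, z l ≠ 0 := fun l => ((Group.isUnit l).map z).ne_zero
  have htw : ∀ (k : ℕ) (f : MonoidAlgebra K G) (i : G), f.coeff i ≠ 0 → (twist (z ^ k) f).coeff i ≠ 0 :=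
    fun k f i h => by rw [coeff_twist, MonoidHom.pow_apply]; exact mul_ne_zero (pow_ne_zero _ (hz0 i)) h
  rcases eq_or_ne f 0 with rfl | hf
  · refine ⟨∅, Set.finite_empty, fun k _ p q _ h => ⟨0, ?_⟩⟩
    obtain ⟨i, hi⟩ := Finsupp.ne_iff.mp (show g.coeff ≠ 0 by simpa using hg)
    have hg' : twist (z ^ k) g ≠ 0 := fun e => htw k g i (by simpa using hi) (by rw [e]; simp)
    rw [map_zero, mul_zero] at h
    rw [hinj ((mul_eq_zero.mp h).resolve_right hg' |>.trans (map_zero _).symm), map_zero, single_zero, zero_mul]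
  obtain ⟨E₁, hE₁, h₁⟩ := exists_finite_dominant hz f hf
  obtain ⟨E₂, hE₂, h₂⟩ := exists_finite_dominant hz g hg
  let E₃ : Set ℕ := ⋃ p ∈ {p ∈ f.coeff.support ×ˢ g.coeff.support | p.1 ≠ p.2},
    {k : ℕ | v ((z p.1) ^ k * f.coeff p.1) = v ((z p.2) ^ k * g.coeff p.2)}
  have hE₃ : E₃.Finite := by
    refine Set.Finite.biUnion (Finset.finite_toSet _) fun p hp => ?_
    obtain ⟨hp, hne⟩ := Finset.mem_filter.mp hp
    rw [Finset.mem_product, Finsupp.mem_support_iff, Finsupp.mem_support_iff] at hp
    exact finite_tie hz hne hp.1 hp.2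
  refine ⟨E₁ ∪ E₂ ∪ E₃, (hE₁.union hE₂).union hE₃, fun k hk p q hq h => ?_⟩
  simp only [Set.mem_union, not_or] at hk
  obtain ⟨i, hi, hid⟩ := h₁ k hk.1.1
  obtain ⟨j, hj, hjd⟩ := h₂ k hk.1.2
  obtain ⟨P, hP, hP'⟩ := exists_normal _ i (htw k f i hi) hid
  obtain ⟨Q, hQ, hQ'⟩ := exists_normal _ j (htw k g j hj) hjd
  set c := (twist (z ^ k) f).coeff i
  set d := (twist (z ^ k) g).coeff j
  have hc : c ≠ 0 := htw k f i hi
  have hd : d ≠ 0 := htw k g j hj
  rw [hP, hQ] at h
  rcases le_or_gt (v (c / d)) 1 with hle | hgt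
  · obtain ⟨e, he⟩ := exists_of_le_one hle
    have h1 : p * Q = single 1 e * (q * P) := by
      apply hinj
      have hs : single (1 : G) d * single 1 (algebraMap V K e) = single 1 c := by
        rw [single_mul_single, _root_.one_mul, he, mul_div_cancel₀ _ hd]
      apply mul_left_cancel₀ (show (single (1 : G) d : MonoidAlgebra K G) ≠ 0 by simpa using hd)
      rw [map_mul, map_mul, map_mul, mapRingHom_single, ← mul_assoc (single 1 d) (single 1 _), hs]
      linear_combination h
    have h2 := congrArg (mapRingHom G (IsLocalRing.residue V)) h1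
    rw [map_mul, map_mul, map_mul, mapRingHom_single, hP', hQ'] at h2
    by_cases he0 : IsLocalRing.residue V e = 0
    · refine ⟨0, ?_⟩
      rw [he0, single_zero, zero_mul, mul_eq_zero] at h2
      rw [single_zero, zero_mul, h2.resolve_right (by simp)]
    · have hv1 : v (c / d) = 1 := by
        rw [← he, ← isUnit_iff_eq_one]
        exact (IsLocalRing.residue_ne_zero_iff_isUnit e).mp he0
      have hij : i = j := by
        by_contra hne
        refine hk.2 (Set.mem_biUnion (show (i, j) ∈ {p ∈ f.coeff.support ×ˢ g.coeff.support | p.1 ≠ p.2} from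
          Finset.mem_filter.mpr ⟨Finset.mem_product.mpr ⟨Finsupp.mem_support_iff.mpr hi, Finsupp.mem_support_iff.mpr hj⟩, hne⟩) ?_)
        rw [map_div₀, div_eq_one_iff_eq ((Valuation.ne_zero_iff _).mpr hd)] at hv1
        simpa [c, d, coeff_twist] using hv1
      subst hij
      refine ⟨IsLocalRing.residue V e, ?_⟩
      rw [← mul_assoc] at h2
      exact mul_right_cancel₀ (by simp) h2
  · exfalso
    obtain ⟨e, he⟩ := exists_of_le_one (V := V) (x := d / c) (by
      rw [← inv_div, map_inv₀]; exact inv_le_one_of_one_le₀ hgt.le)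
    have he0 : IsLocalRing.residue V e = 0 := by
      rw [residue_eq_zero_iff (K := K), he, ← inv_div, map_inv₀]
      exact inv_lt_one_of_one_lt₀ hgt
    have h1 : single 1 e * (p * Q) = q * P := by
      apply hinj
      have hs : single (1 : G) c * single 1 (algebraMap V K e) = single 1 d := by
        rw [single_mul_single, _root_.one_mul, he, mul_div_cancel₀ _ hc]
      apply mul_left_cancel₀ (show (single (1 : G) c : MonoidAlgebra K G) ≠ 0 by simpa using hc)
      rw [map_mul, map_mul, map_mul, mapRingHom_single, ← mul_assoc (single 1 c) (single 1 _), hs]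
      linear_combination h
    have h2 := congrArg (mapRingHom G (IsLocalRing.residue V)) h1
    rw [map_mul, map_mul, map_mul, mapRingHom_single, hP', hQ', he0, single_zero, zero_mul, eq_comm, mul_eq_zero] at h2
    exact hq (h2.resolve_right (by simp))

end Groth.Agent.H21Mono
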