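import Groth.Agent.H21Mono.Image

/-!
The schematic image of a group of multiplicative type: descent.
-/

set_option autoImplicit false
set_option backward.isDefEq.respectTransparency false
set_option maxHeartbeats 1000000
set_option synthInstance.maxHeartbeats 400000
set_option linter.style.haveILetI false

universe u

open CategoryTheory CategoryTheory.Limits MonoidalCategory CartesianMonoidalCategory MonObj GrpObj AlgebraicGeometry

namespace Groth.Agent.H21Mono

variable {S : Scheme.{u}} {H G Q : Over S} [GrpObj H] [GrpObj G] [IsSeparated G.hom] [QuasiCompact G.hom]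
  [LocallyOfFinitePresentation G.hom]

/-- locally for fpqc diagonalisable, of arbitrary type -/
abbrev LocDS (H : Over S) [GrpObj H] : Prop :=
  TwC.Locally S TwC.Topology.fpqc (fun S' g => ∃ (M : Type) (_ : AddCommGroup M),
    Nonempty (Grp.mk (Red.bc g H) ≅ Grp.mk (Red.DS S' M)))

omit [GrpObj G] [IsSeparated G.hom] [QuasiCompact G.hom] [LocallyOfFinitePresentation G.hom] in
theorem prop_of_locDS (P : MorphismProperty Scheme.{u}) [IsZariskiLocalAtTarget P] [P.IsStableUnderBaseChange]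
    [P.DescendsAlong H18Descent.fpqc.{u}] (hDS : ∀ (T : Scheme.{u}) (M : Type) [AddCommGroup M], P (Red.DS T M).hom)
    (hH : LocDS H) : P H.hom := by
  obtain ⟨S', g, hg, hs, hqc, hloc⟩ := hH
  haveI := hg
  refine H21Diag.of_fpqc_cover_base P g hqc H.hom fun s' => ?_
  obtain ⟨U, hsU, M, _, ⟨e⟩⟩ := hloc s'
  refine ⟨U, hsU, ?_⟩
  haveI : IsIso e.hom.hom.hom := ⟨e.inv.hom.hom, congrArg (fun k => k.hom.hom) e.hom_inv_id,
    congrArg (fun k => k.hom.hom) e.inv_hom_id⟩
  haveI : IsIso e.hom.hom.hom.left := inferInstanceAs (IsIso ((Over.forget _).map e.hom.hom.hom))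
  have h := hDS U M
  rw [← MorphismProperty.cancel_left_of_respectsIso (P := P) e.hom.hom.hom.left, Over.w] at h
  exact h

omit [QuasiCompact G.hom] [LocallyOfFinitePresentation G.hom] in
theorem quasiCompact_of_locDS (hH : LocDS H) (f : H ⟶ G) : QuasiCompact f.left := by
  haveI : IsAffineHom H.hom := prop_of_locDS @IsAffineHom (fun T M _ => H21Diag.isAffineHom_DS T M) hH
  haveI : QuasiCompact (f.left ≫ G.hom) := by rw [Over.w f]; infer_instance
  exact QuasiCompact.of_comp f.left G.hom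

/-- the local model of the schematic image -/
theorem exists_local_model (hH : LocDS H) (f : H ⟶ G) [IsMonHom f] (f' : H ⟶ Q)
    [IsSchemeTheoreticallyDominant f'.left] [QuasiCompact f'.left] (i : Q ⟶ G) [IsClosedImmersion i.left]
    (hfi : f' ≫ i = f) :
    ∃ (S' : Scheme.{u}) (g : S' ⟶ S), Flat g ∧ Surjective g ∧
      (∀ V : S.Opens, IsAffineOpen V → ∃ W : S'.Opens, IsCompact (W : Set S') ∧ g.base '' (W : Set S') = (V : Set S)) ∧
      ∀ s' : S', ∃ (T : Scheme.{u}) (t : T ⟶ S) (U : T.Opens) (V : S'.Opens) (k : (V : Scheme.{u}) ⟶ U)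
        (Λ : Type) (_ : AddCommGroup Λ), s' ∈ V ∧ k ≫ U.ι ≫ t = V.ι ≫ g ∧
        Flat ((Over.pullback U.ι).map ((Over.pullback t).map f')).left ∧
        Surjective ((Over.pullback U.ι).map ((Over.pullback t).map f')).left ∧
        ∃ ψ : Red.bc U.ι (Red.DS T Λ) ≅ Red.bc U.ι (Red.bc t Q),
          IsMonHom (ψ.hom ≫ (Over.pullback U.ι).map ((Over.pullback t).map i)) := by
  obtain ⟨S', g, hg, hs, hqc, hloc⟩ := hH
  refine ⟨S', g, hg, hs, hqc, fun s' => ?_⟩
  obtain ⟨U', hsU, M, _, ⟨e⟩⟩ := hloc s'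
  haveI := hg
  obtain ⟨U, Λ, hx, -, hfl, hsu, ψ, hψ⟩ := exists_image_chart f f' i hfi (U'.ι ≫ g) e ⟨s', hsU⟩
  have hr : Set.range (U'.ι ''ᵁ U).ι.base ⊆ Set.range (U.ι ≫ U'.ι).base := by
    rintro _ ⟨⟨_, z, hz, rfl⟩, rfl⟩
    exact ⟨⟨z, hz⟩, rfl⟩
  refine ⟨U', U'.ι ≫ g, U, U'.ι ''ᵁ U, IsOpenImmersion.lift (U.ι ≫ U'.ι) (U'.ι ''ᵁ U).ι hr, Λ, inferInstance,
    ⟨⟨s', hsU⟩, hx, rfl⟩, ?_, hfl, hsu, ψ, hψ⟩
  rw [← Category.assoc U.ι, ← Category.assoc (IsOpenImmersion.lift (U.ι ≫ U'.ι) (U'.ι ''ᵁ U).ι hr),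
    IsOpenImmersion.lift_fac]

/-- the schematic image is flat -/
theorem flat_image (hH : LocDS H) (f : H ⟶ G) [IsMonHom f] (f' : H ⟶ Q)
    [IsSchemeTheoreticallyDominant f'.left] [QuasiCompact f'.left] (i : Q ⟶ G) [IsClosedImmersion i.left]
    (hfi : f' ≫ i = f) : Flat Q.hom := by
  obtain ⟨S', g, hg, -, hqc, hloc⟩ := exists_local_model hH f f' i hfi
  haveI := hg
  refine H21Diag.of_fpqc_cover_base @Flat g hqc Q.hom fun s' => ?_
  obtain ⟨T, t, U, V, k, Λ, _, hsV, hk, -, -, ψ, -⟩ := hloc s'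
  refine ⟨V, hsV, ?_⟩
  haveI := H21Diag.flat_DS T Λ
  have h0 : Flat (Red.bc U.ι (Red.DS T Λ)).hom := MorphismProperty.pullback_snd (P := @Flat) _ _ inferInstance
  haveI : IsIso ψ.inv.left := inferInstanceAs (IsIso ((Over.forget _).map ψ.inv))
  rw [← MorphismProperty.cancel_left_of_respectsIso (P := @Flat) ψ.inv.left, Over.w] at h0
  have sq : IsPullback (pullback.fst (Red.bc t Q).hom U.ι ≫ pullback.fst Q.hom t) (Red.bc U.ι (Red.bc t Q)).hom
      Q.hom (U.ι ≫ t) :=
    (IsPullback.of_hasPullback (Red.bc t Q).hom U.ι).paste_horiz (IsPullback.of_hasPullback Q.hom t)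
  let l := sq.lift (pullback.fst Q.hom (V.ι ≫ g)) (pullback.snd Q.hom (V.ι ≫ g) ≫ k)
    (by rw [Category.assoc, hk, pullback.condition])
  have sq' : IsPullback l (pullback.snd Q.hom (V.ι ≫ g)) (Red.bc U.ι (Red.bc t Q)).hom k := by
    refine IsPullback.of_right ?_ (sq.lift_snd _ _ _) sq
    rw [hk, sq.lift_fst]
    exact IsPullback.of_hasPullback Q.hom (V.ι ≫ g)
  exact MorphismProperty.of_isPullback (P := @Flat) sq' h0

/-- the map to the schematic image is faithfully flat and the image is of multiplicative type -/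
theorem image_props [GrpObj Q] (hH : LocDS H) (f : H ⟶ G) [IsMonHom f] (f' : H ⟶ Q)
    [IsSchemeTheoreticallyDominant f'.left] [QuasiCompact f'.left] (i : Q ⟶ G) [IsClosedImmersion i.left]
    [IsMonHom i] (hfi : f' ≫ i = f) : LocDS Q ∧ Flat f'.left ∧ Surjective f'.left := by
  obtain ⟨S', g, hg, hs, hqc, hloc⟩ := exists_local_model hH f f' i hfi
  haveI := hg
  refine ⟨⟨S', g, hg, hs, hqc, fun s' => ?_⟩, ?_⟩
  · obtain ⟨T, t, U, V, k, Λ, _, hsV, hk, -, -, ψ, hψ⟩ := hloc s'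
    let i₂ : Red.bc U.ι (Red.bc t Q) ⟶ Red.bc U.ι (Red.bc t G) := (Over.pullback U.ι).map ((Over.pullback t).map i)
    haveI : IsMonHom ((Over.pullback t).map i : Red.bc t Q ⟶ Red.bc t G) := H21Diag.isMonHom_bcMap t i
    haveI : IsMonHom i₂ := H21Diag.isMonHom_bcMap U.ι _
    haveI : IsClosedImmersion ((Over.pullback t).map i).left :=
      MorphismProperty.of_isPullback (P := @IsClosedImmersion) (sqBC t i).flip ‹_›
    haveI : IsClosedImmersion i₂.left :=
      MorphismProperty.of_isPullback (P := @IsClosedImmersion) (sqBC U.ι _).flip inferInstance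
    haveI : Mono i₂ := (Over.forget _).mono_of_mono_map (show Mono i₂.left from inferInstance)
    haveI := hψ
    haveI : IsMonHom ψ.hom := H21Diag.isMonHom_of_comp_mono ψ.hom i₂
    let Ψ : Grp.mk (Red.bc U.ι (Red.DS T Λ)) ≅ Grp.mk (Red.bc U.ι (Red.bc t Q)) := Grp.mkIso' ψ
    let e₀ : Grp.mk (Red.bc (U.ι ≫ t) Q) ≅ Grp.mk (Red.DS (U : Scheme.{u}) Λ) :=
      H21Diag.bcCompIso U.ι t Q ≪≫ Ψ.symm ≪≫ H21Diag.bcDSIso U.ι Λ
    exact ⟨V, hsV, Λ, inferInstance, ⟨H21Diag.restrictChart e₀ k hk⟩⟩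
  · have key : ∀ (P : MorphismProperty Scheme.{u}) [IsZariskiLocalAtTarget P] [P.IsStableUnderBaseChange]
        [P.DescendsAlong H18Descent.fpqc.{u}], (∀ {T : Scheme.{u}} (t : T ⟶ S) (U : T.Opens),
          Flat ((Over.pullback U.ι).map ((Over.pullback t).map f')).left →
          Surjective ((Over.pullback U.ι).map ((Over.pullback t).map f')).left →
          P ((Over.pullback U.ι).map ((Over.pullback t).map f')).left) → P f'.left := by
      intro P _ _ _ hP
      refine H21Diag.of_fpqc_cover P g hqc f'.left Q.hom fun s' => ?_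
      obtain ⟨T, t, U, V, k, Λ, _, hsV, hk, hfl, hsu, -⟩ := hloc s'
      obtain ⟨W, hW, hsW, hWV⟩ := exists_isAffineOpen_mem_and_subset (U := V) (x := s') hsV
      refine ⟨_, hW.fromSpec, inferInstance, by rw [hW.range_fromSpec]; exact hsW, ?_⟩
      have hr : Set.range hW.fromSpec.base ⊆ Set.range V.ι.base := by
        rw [hW.range_fromSpec, Scheme.Opens.range_ι]; exact hWV
      refine pullback_snd_of_bc P (t := t) (k := U.ι) f' (hP t U hfl hsu) _
        (pullback.snd Q.hom (hW.fromSpec ≫ g) ≫ IsOpenImmersion.lift V.ι hW.fromSpec hr ≫ k) ?_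
      rw [pullback.condition]
      simp only [Category.assoc, hk, IsOpenImmersion.lift_fac_assoc]
    exact ⟨key @Flat fun t U h _ => h, key @Surjective fun t U _ h => h⟩

end Groth.Agent.H21Mono
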