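import Groth.Agent.H21Mono.GaussBound
import Mathlib.RingTheory.Localization.FractionRing
import Mathlib.RingTheory.Localization.AtPrime.Basic

/-!
The local ring of the generic point of the special fibre of a torus over a valuation ring, with its maps to
the function fields of the two fibres.
-/

set_option autoImplicit false
set_option linter.style.haveILetI false

universe u

namespace Groth.Agent.H21Mono

open MonoidAlgebra (mapRingHom single)

variable (V : Type u) [CommRing V] [IsDomain V] [ValuationRing V] (K : Type u) [Field K] [Algebra V K]
  [IsFractionRing V K] (G : Type) [CommGroup G] [UniqueProds G]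

/-- reduction of coefficients -/
noncomputable def red : MonoidAlgebra V G →+* MonoidAlgebra (IsLocalRing.ResidueField V) G :=
  mapRingHom G (IsLocalRing.residue V)

/-- inclusion of coefficients -/
noncomputable def inc : MonoidAlgebra V G →+* MonoidAlgebra K G := mapRingHom G (algebraMap V K)

theorem inc_injective : Function.Injective (inc V K G) := fun a b h =>
  MonoidAlgebra.ext (Finsupp.ext fun l => IsFractionRing.injective V K (by
    rw [← MonoidAlgebra.coeff_mapRingHom, ← MonoidAlgebra.coeff_mapRingHom]
    exact congrArg (fun f => f.coeff l) h))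

/-- function field of the generic fibre -/
abbrev GenField : Type u := FractionRing (MonoidAlgebra K G)

/-- function field of the special fibre -/
abbrev SpecField : Type u := FractionRing (MonoidAlgebra (IsLocalRing.ResidueField V) G)

instance isPrime_ker_red : (RingHom.ker (red V G)).IsPrime := RingHom.ker_isPrime _

/-- the local ring at the generic point of the special fibre -/
abbrev GaussRing : Type u := Localization.AtPrime (RingHom.ker (red V G))

theorem isUnit_inc (q : (RingHom.ker (red V G)).primeCompl) :
    IsUnit (((algebraMap (MonoidAlgebra K G) (GenField K G)).comp (inc V K G)) q) :=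
  isUnit_iff_ne_zero.mpr fun e => q.2 (show (q : MonoidAlgebra V G) ∈ RingHom.ker (red V G) by
    rw [RingHom.mem_ker, inc_injective V K G ((IsFractionRing.injective _ _ (e.trans (map_zero _).symm)).trans
      (map_zero _).symm), map_zero])

theorem isUnit_red (q : (RingHom.ker (red V G)).primeCompl) :
    IsUnit (((algebraMap (MonoidAlgebra (IsLocalRing.ResidueField V) G) (SpecField V G)).comp (red V G)) q) :=
  isUnit_iff_ne_zero.mpr fun e => q.2 (IsFractionRing.injective _ _ (e.trans (map_zero _).symm))

/-- to the generic fibre -/
noncomputable def toGen : GaussRing V G →+* GenField K G := IsLocalization.lift (isUnit_inc V K G)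

/-- to the special fibre -/
noncomputable def toSpec : GaussRing V G →+* SpecField V G := IsLocalization.lift (isUnit_red V G)

theorem toGen_algebraMap (p : MonoidAlgebra V G) :
    toGen V K G (algebraMap _ _ p) = algebraMap _ _ (inc V K G p) :=
  IsLocalization.lift_eq _ _

theorem toSpec_algebraMap (p : MonoidAlgebra V G) :
    toSpec V G (algebraMap _ _ p) = algebraMap _ _ (red V G p) :=
  IsLocalization.lift_eq _ _

/-- constants -/
noncomputable def gaussC : V →+* GaussRing V G :=
  (algebraMap (MonoidAlgebra V G) (GaussRing V G)).comp MonoidAlgebra.singleOneRingHom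

/-- constants -/
noncomputable def genC : K →+* GenField K G :=
  (algebraMap (MonoidAlgebra K G) (GenField K G)).comp MonoidAlgebra.singleOneRingHom

/-- constants -/
noncomputable def specC : IsLocalRing.ResidueField V →+* SpecField V G :=
  (algebraMap (MonoidAlgebra (IsLocalRing.ResidueField V) G) (SpecField V G)).comp MonoidAlgebra.singleOneRingHom

/-- monomials -/
noncomputable def gaussX : G →* GaussRing V G :=
  (algebraMap (MonoidAlgebra V G) (GaussRing V G)).toMonoidHom.comp (MonoidAlgebra.of V G)

/-- monomials -/
noncomputable def genX : G →* GenField K G :=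
  (algebraMap (MonoidAlgebra K G) (GenField K G)).toMonoidHom.comp (MonoidAlgebra.of K G)

/-- monomials -/
noncomputable def specX : G →* SpecField V G :=
  (algebraMap (MonoidAlgebra (IsLocalRing.ResidueField V) G) (SpecField V G)).toMonoidHom.comp (MonoidAlgebra.of _ G)

theorem toGen_gaussC : (toGen V K G).comp (gaussC V G) = (genC K G).comp (algebraMap V K) :=
  RingHom.ext fun a => (toGen_algebraMap V K G _).trans (by simp [inc, genC])

theorem toSpec_gaussC : (toSpec V G).comp (gaussC V G) = (specC V G).comp (IsLocalRing.residue V) :=
  RingHom.ext fun a => (toSpec_algebraMap V G _).trans (by simp [red, specC])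

theorem toGen_gaussX : (toGen V K G).toMonoidHom.comp (gaussX V G) = genX K G :=
  MonoidHom.ext fun m => (toGen_algebraMap V K G _).trans (by simp [inc, genX])

theorem toSpec_gaussX : (toSpec V G).toMonoidHom.comp (gaussX V G) = specX V G :=
  MonoidHom.ext fun m => (toSpec_algebraMap V G _).trans (by simp [red, specX])

variable {K G}

theorem twist_injective (c : G →* K) : Function.Injective (twist c).toRingHom := fun a b h => by
  refine MonoidAlgebra.ext (Finsupp.ext fun l => ?_)
  have h' : (twist c a).coeff l = (twist c b).coeff l := congrArg (fun f : MonoidAlgebra K G => f.coeff l) h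
  rw [coeff_twist, coeff_twist] at h'
  exact mul_left_cancel₀ ((Group.isUnit l).map c).ne_zero h'

theorem injective_twistMap (c : G →* K) :
    Function.Injective ((algebraMap (MonoidAlgebra K G) (GenField K G)).comp (twist c).toRingHom) := by
  rw [RingHom.coe_comp]
  exact (IsFractionRing.injective _ _).comp (twist_injective c)

/-- twisting the function field by a point -/
noncomputable def twF (c : G →* K) : GenField K G →+* GenField K G :=
  IsFractionRing.lift (A := MonoidAlgebra K G) (injective_twistMap c)

theorem twF_algebraMap (c : G →* K) (f : MonoidAlgebra K G) :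
    twF c (algebraMap _ _ f) = algebraMap _ _ (twist c f) :=
  IsFractionRing.lift_algebraMap (injective_twistMap c) f

theorem twF_genC (c : G →* K) : (twF c).comp (genC K G) = genC K G :=
  RingHom.ext fun a => (twF_algebraMap c _).trans (by simp [genC, twist_single])

theorem twF_genX (c : G →* K) : (twF c).toMonoidHom.comp (genX K G) = (genC K G).toMonoidHom.comp c * genX K G :=
  MonoidHom.ext fun m => (twF_algebraMap c _).trans (by
    show algebraMap (MonoidAlgebra K G) (GenField K G) (twist c (single m (1 : K))) =
      algebraMap (MonoidAlgebra K G) (GenField K G) (MonoidAlgebra.singleOneRingHom (M := G) (c m)) *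
        algebraMap (MonoidAlgebra K G) (GenField K G) (single m (1 : K))
    rw [← map_mul, twist_single]
    refine congrArg _ ?_
    show _ = single (1 : G) (c m) * single m (1 : K)
    rw [
      MonoidAlgebra.single_mul_single, _root_.one_mul, _root_.one_mul, _root_.mul_one])

theorem twF_comp (c c' : G →* K) (h : c * c' = 1) : (twF c).comp (twF c') = RingHom.id _ := by
  refine IsLocalization.ringHom_ext (nonZeroDivisors (MonoidAlgebra K G)) (RingHom.ext fun f => ?_)
  simp only [RingHom.comp_apply, RingHom.id_apply]
  rw [twF_algebraMap, twF_algebraMap]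
  congr 1
  refine MonoidAlgebra.ext (Finsupp.ext fun l => ?_)
  rw [coeff_twist, coeff_twist, ← _root_.mul_assoc, ← MonoidHom.mul_apply, h, MonoidHom.one_apply, _root_.one_mul]

variable {V}

/-- integral translates of a rational function have, almost all, constant residues -/
theorem exists_finite_const {z : G →* K} (hz : ∀ l, ValuationRing.valuation V K (z l) = 1 → l = 1)
    (b : GenField K G) :
    ∃ E : Set ℕ, E.Finite ∧ ∀ k ∉ E, ∀ x : GaussRing V G, toGen V K G x = twF (z ^ k) b →
      toSpec V G x ∈ (specC V G).range := by
  obtain ⟨f, g, hg, hfg⟩ := IsFractionRing.div_surjective (MonoidAlgebra K G) b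
  have hg0 : g ≠ 0 := nonZeroDivisors.ne_zero hg
  have hF : Function.Injective (algebraMap (MonoidAlgebra K G) (GenField K G)) := IsFractionRing.injective _ _
  have hΩ : Function.Injective (algebraMap (MonoidAlgebra (IsLocalRing.ResidueField V) G) (SpecField V G)) :=
    IsFractionRing.injective _ _
  obtain ⟨E, hE, hE'⟩ := exists_finite_residue_const (V := V) hz f g hg0
  refine ⟨E, hE, fun k hk x hx => ?_⟩
  obtain ⟨p, q, hpq⟩ := IsLocalization.exists_mk'_eq (RingHom.ker (red V G)).primeCompl x
  have hs := IsLocalization.mk'_spec (GaussRing V G) p q
  rw [hpq] at hs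
  have hq' : red V G q ≠ 0 := q.2
  have h1 : toGen V K G x * algebraMap _ (GenField K G) (inc V K G q) = algebraMap _ _ (inc V K G p) := by
    rw [← toGen_algebraMap, ← toGen_algebraMap, ← map_mul, hs]
  have h2 : toGen V K G x * algebraMap _ (GenField K G) (twist (z ^ k) g) = algebraMap _ _ (twist (z ^ k) f) := by
    rw [hx, ← twF_algebraMap, ← twF_algebraMap, ← map_mul, ← hfg,
      div_mul_cancel₀ _ ((map_ne_zero_iff _ hF).mpr hg0)]
  obtain ⟨e, he⟩ := hE' k hk p q hq' (hF (by
    show algebraMap _ _ (inc V K G p * twist (z ^ k) g) = algebraMap _ _ (inc V K G q * twist (z ^ k) f)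
    rw [map_mul, map_mul, ← h1, ← h2]; ring))
  refine ⟨e, ?_⟩
  have h3 : toSpec V G x * algebraMap _ (SpecField V G) (red V G q) = algebraMap _ _ (red V G p) := by
    rw [← toSpec_algebraMap, ← toSpec_algebraMap, ← map_mul, hs]
  rw [show red V G p = _ from he, map_mul] at h3
  exact (mul_right_cancel₀ ((map_ne_zero_iff _ hΩ).mpr hq') h3).symm

variable (V)

theorem injective_invMap :
    Function.Injective ((algebraMap (MonoidAlgebra (IsLocalRing.ResidueField V) G) (SpecField V G)).comp
      (MonoidAlgebra.mapDomainRingHom (IsLocalRing.ResidueField V) (invMonoidHom (α := G)))) := by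
  rw [RingHom.coe_comp]
  exact (IsFractionRing.injective _ _).comp (MonoidAlgebra.mapDomain_injective inv_injective)

/-- inversion on the special fibre -/
noncomputable def invF : SpecField V G →+* SpecField V G :=
  IsFractionRing.lift (A := MonoidAlgebra (IsLocalRing.ResidueField V) G) (injective_invMap V)

theorem invF_algebraMap (f : MonoidAlgebra (IsLocalRing.ResidueField V) G) :
    invF V (algebraMap _ (SpecField V G) f) =
      algebraMap _ _ (MonoidAlgebra.mapDomainRingHom (IsLocalRing.ResidueField V) (invMonoidHom (α := G)) f) :=
  IsFractionRing.lift_algebraMap (injective_invMap V) f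

theorem invF_specC : (invF V).comp (specC V G) = specC V G :=
  RingHom.ext fun a => (invF_algebraMap V _).trans (by simp [specC])

theorem invF_specX_eq {l : G} (h : invF V (specX V G l) = specX V G l) : l⁻¹ = l := by
  classical
  replace h : algebraMap _ (SpecField V G) (MonoidAlgebra.mapDomainRingHom (IsLocalRing.ResidueField V) (invMonoidHom (α := G))
      (single l (1 : IsLocalRing.ResidueField V))) = algebraMap (MonoidAlgebra (IsLocalRing.ResidueField V) G) (SpecField V G)
        (single l (1 : IsLocalRing.ResidueField V)) := (invF_algebraMap V _).symm.trans h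
  by_contra hne
  have h6 := congrArg (fun f : MonoidAlgebra (IsLocalRing.ResidueField V) G => f.coeff l)
    (IsFractionRing.injective _ _ h)
  simp [MonoidAlgebra.coeff_single, Finsupp.single_apply, hne] at h6

end Groth.Agent.H21Mono
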