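import Groth.Agent.H21Mono.PointsFamily
import Groth.Agent.H21Mono.TorusRings
import Mathlib.RingTheory.Localization.FractionRing
import Mathlib.AlgebraicGeometry.Morphisms.Separated
import Mathlib.AlgebraicGeometry.Morphisms.FiniteType
import Mathlib.AlgebraicGeometry.Morphisms.QuasiCompact
import Mathlib.Data.Fintype.Pigeonhole
import Mathlib.Algebra.MonoidAlgebra.Division

/-!
A monomorphism from a diagonalisable group to a group of finite type cannot send a non-integral point to an
integral one.
-/

set_option autoImplicit false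
set_option backward.isDefEq.respectTransparency false
set_option maxHeartbeats 1000000
set_option synthInstance.maxHeartbeats 400000
set_option linter.style.haveILetI false

universe u

open CategoryTheory CategoryTheory.Limits MonoidalCategory CartesianMonoidalCategory MonObj GrpObj AlgebraicGeometry

namespace Groth.Agent.H21Mono

open Groth.Agent.H21Diag (dpt dpt_mul dpt_one dpt_injective)

/-- a morphism from the spectrum of a local ring factors through an open containing the closed point -/
theorem range_subset_of_closedPoint {R : Type u} [CommRing R] [IsLocalRing R] {Z : Scheme.{u}}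
    (g : Spec (CommRingCat.of R) ⟶ Z) (U : Z.Opens) (h : g.base (IsLocalRing.closedPoint R) ∈ U) :
    Set.range g.base ⊆ (U : Set Z) := by
  rintro _ ⟨x, rfl⟩
  exact U.isOpen.stableUnderGeneralization ((IsLocalRing.specializes_closedPoint x).map g.base.hom.continuous) h

/-- finitely many affine opens cover a quasi-compact scheme -/
theorem exists_finite_affine_cover (Z : Scheme.{u}) [CompactSpace Z] :
    ∃ s : Set Z.affineOpens, s.Finite ∧ ∀ x : Z, ∃ U ∈ s, x ∈ (U : Z.Opens) := by
  obtain ⟨t, ht⟩ := isCompact_univ.elim_finite_subcover (fun U : Z.affineOpens => ((U : Z.Opens) : Set Z))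
    (fun U => (U : Z.Opens).isOpen) (fun x _ => by
      obtain ⟨U, hU, hx, -⟩ := exists_isAffineOpen_mem_and_subset (U := (⊤ : Z.Opens)) (x := x) trivial
      exact Set.mem_iUnion.mpr ⟨⟨U, hU⟩, hx⟩)
  refine ⟨t, t.finite_toSet, fun x => ?_⟩
  obtain ⟨U, hU, hx⟩ := Set.mem_iUnion₂.mp (ht (Set.mem_univ x))
  exact ⟨U, hU, hx⟩

variable {S : Scheme.{u}} {M : Type} [AddCommGroup M] {L : Type} [AddCommGroup L] {X : Over S} [GrpObj X]
  {V : Type u} [CommRing V] [IsDomain V] [ValuationRing V] {K : Type u} [Field K] [Algebra V K] [IsFractionRing V K]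

local notation "v" => ValuationRing.valuation V K

/-- the translates are twists of one rational point -/
theorem pt_twist [UniqueProds (Multiplicative L)] (u : Red.DS S M ⟶ X) [IsMonHom u]
    (t : Spec (CommRingCat.of V) ⟶ S) (y : Over.mk t ⟶ X) (πm : Multiplicative M →* Multiplicative L)
    (z : Multiplicative L →* K)
    (hy : dpt (Spec.map (CommRingCat.ofHom (algebraMap V K)) ≫ t) (z.comp πm) ≫ u = qmap t (algebraMap V K) ≫ y)
    (k : ℕ) :
    Spec.map (CommRingCat.ofHom (twF (z ^ k))) ≫
        (pt u t y ((genC K _).comp (algebraMap V K)) ((genX K _).comp πm) 0).left =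
      Spec.map (CommRingCat.ofHom (toGen V K _)) ≫ (pt u t y (gaussC V _) ((gaussX V _).comp πm) k).left := by
  rw [pt_natural_left u t y _ (show (twF (z ^ k)).comp ((genC K _).comp (algebraMap V K)) = _ by
    rw [← RingHom.comp_assoc, twF_genC]), pt_natural_left u t y _ (toGen_gaussC V K _)]
  have e1 : (twF (z ^ k)).toMonoidHom.comp ((genX K _).comp πm) =
      ((genC K (Multiplicative L)).toMonoidHom.comp (z.comp πm)) ^ k * (genX K _).comp πm := MonoidHom.ext fun m => by
    have h := DFunLike.congr_fun (twF_genX (z ^ k)) (πm m)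
    simpa using h
  have e2 : (toGen V K _).toMonoidHom.comp ((gaussX V _).comp πm) = (genX K (Multiplicative L)).comp πm :=
    MonoidHom.ext fun m => DFunLike.congr_fun (toGen_gaussX V K _) (πm m)
  rw [e1, e2]
  exact congrArg (fun m => m.left)
    (pt_translate u t y (genC K (Multiplicative L)) (ρ := (genC K _).comp (algebraMap V K)) rfl _ hy _ k)

/-- the inverse of a power of a point -/
theorem exists_pow_inv {G : Type} [CommGroup G] (z : G →* K) (k : ℕ) : ∃ c : G →* K, z ^ k * c = 1 :=
  ⟨{ toFun := fun l => z l⁻¹ ^ k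
     map_one' := by simp
     map_mul' := fun a b => by rw [_root_.mul_inv, map_mul, _root_.mul_pow] }, MonoidHom.ext fun l => by
    show z l ^ k * z l⁻¹ ^ k = 1
    rw [← _root_.mul_pow, ← map_mul, mul_inv_cancel, map_one, one_pow]⟩

/-- a translate as a point of the base change to the valuation ring -/
noncomputable def ptZ (u : Red.DS S M ⟶ X) (t : Spec (CommRingCat.of V) ⟶ S) (y : Over.mk t ⟶ X) {D : Type u}
    [CommRing D] (ρ : V →+* D) (ψ : Multiplicative M →* D) (k : ℕ) :
    Spec (CommRingCat.of D) ⟶ pullback X.hom t :=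
  pullback.lift (pt u t y ρ ψ k).left (Spec.map (CommRingCat.ofHom ρ)) (Over.w (pt u t y ρ ψ k))

omit [IsDomain V] [ValuationRing V] in
theorem ptZ_fst (u : Red.DS S M ⟶ X) (t : Spec (CommRingCat.of V) ⟶ S) (y : Over.mk t ⟶ X) {D : Type u}
    [CommRing D] (ρ : V →+* D) (ψ : Multiplicative M →* D) (k : ℕ) :
    ptZ u t y ρ ψ k ≫ pullback.fst X.hom t = (pt u t y ρ ψ k).left :=
  pullback.lift_fst _ _ _

omit [IsDomain V] [ValuationRing V] in
theorem ptZ_snd (u : Red.DS S M ⟶ X) (t : Spec (CommRingCat.of V) ⟶ S) (y : Over.mk t ⟶ X) {D : Type u}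
    [CommRing D] (ρ : V →+* D) (ψ : Multiplicative M →* D) (k : ℕ) :
    ptZ u t y ρ ψ k ≫ pullback.snd X.hom t = Spec.map (CommRingCat.ofHom ρ) :=
  pullback.lift_snd _ _ _

theorem not_integral [UniqueProds (Multiplicative L)] [Nontrivial L] [LocallyOfFiniteType X.hom]
    [QuasiCompact X.hom] (u : Red.DS S M ⟶ X) [IsMonHom u] [Mono u]
    (t : Spec (CommRingCat.of V) ⟶ S) (y : Over.mk t ⟶ X) (π : M →+ L) (hπ : Function.Surjective π)
    (z : Multiplicative L →* K) (hz : ∀ l, v (z l) = 1 → l = 1) :
    dpt (Spec.map (CommRingCat.ofHom (algebraMap V K)) ≫ t) (z.comp (AddMonoidHom.toMultiplicative π)) ≫ u ≠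
      qmap t (algebraMap V K) ≫ y := by
  classical
  intro hy
  let πm := AddMonoidHom.toMultiplicative π
  -- the base change to the valuation ring and a finite affine cover
  let Z := pullback X.hom t
  haveI : LocallyOfFiniteType (pullback.snd X.hom t) := MorphismProperty.pullback_snd (P := @LocallyOfFiniteType) _ _ ‹_›
  haveI : QuasiCompact (pullback.snd X.hom t) := MorphismProperty.pullback_snd (P := @QuasiCompact) _ _ ‹_›
  haveI : CompactSpace Z := QuasiCompact.compactSpace_of_compactSpace (pullback.snd X.hom t)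
  let pZ : ℕ → (Spec (CommRingCat.of (GaussRing V (Multiplicative L))) ⟶ Z) := fun k =>
    ptZ u t y (gaussC V (Multiplicative L)) ((gaussX V (Multiplicative L)).comp πm) k
  obtain ⟨s, hs, hcov⟩ := exists_finite_affine_cover Z
  choose Uof hUof hmem using fun k => hcov ((pZ k).base (IsLocalRing.closedPoint _))
  haveI : Finite s := hs
  obtain ⟨⟨⟨U, hU⟩, hUs⟩, hinf⟩ := Finite.exists_infinite_fiber (fun k : ℕ => (⟨Uof k, hUof k⟩ : s))
  rw [Set.infinite_coe_iff] at hinf
  set T : Set ℕ := (fun k : ℕ => (⟨Uof k, hUof k⟩ : s)) ⁻¹' {⟨⟨U, hU⟩, hUs⟩} with hT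
  have hTU : ∀ k ∈ T, Set.range (pZ k).base ⊆ Set.range hU.fromSpec.base := fun k hk => by
    have e : Uof k = ⟨U, hU⟩ := congrArg Subtype.val hk
    rw [hU.range_fromSpec]
    exact range_subset_of_closedPoint _ U (by have := hmem k; rw [e] at this; exact this)
  let A := Γ(Z, U)
  let ρA : V →+* A := (Spec.preimage (hU.fromSpec ≫ pullback.snd X.hom t)).hom
  have hρA : Spec.map (CommRingCat.ofHom ρA) = hU.fromSpec ≫ pullback.snd X.hom t := Spec.map_preimage _
  have hft : ρA.FiniteType := by
    have h : LocallyOfFiniteType (Spec.map (CommRingCat.ofHom ρA)) := by rw [hρA]; infer_instance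
    exact (HasRingHomProperty.Spec_iff (P := @LocallyOfFiniteType)).mp h
  let α : T → (A →+* GaussRing V (Multiplicative L)) := fun k =>
    (Spec.preimage (IsOpenImmersion.lift hU.fromSpec (pZ k) (hTU k k.2))).hom
  have hα : ∀ k : T, Spec.map (CommRingCat.ofHom (α k)) ≫ hU.fromSpec = pZ k := fun k => by
    simp only [α, CommRingCat.ofHom_hom, Spec.map_preimage, IsOpenImmersion.lift_fac]
  have hαρ : ∀ k : T, (α k).comp ρA = gaussC V _ := fun k => by
    have h : Spec.map (CommRingCat.ofHom ((α k).comp ρA)) = Spec.map (CommRingCat.ofHom (gaussC V _)) := by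
      rw [CommRingCat.ofHom_comp, Spec.map_comp, hρA, ← Category.assoc, hα]
      exact ptZ_snd _ _ _ _ _ _
    exact congrArg CommRingCat.Hom.hom (Spec.map_injective h)
  -- all translates are twists of one rational point
  obtain ⟨k₀, hk₀⟩ := hinf.nonempty
  obtain ⟨c₀, hc₀⟩ := exists_pow_inv z k₀
  let β : A →+* GenField K (Multiplicative L) := ((twF c₀).comp (toGen V K _)).comp (α ⟨k₀, hk₀⟩)
  have hid : Spec.map (CommRingCat.ofHom (twF c₀)) ≫ Spec.map (CommRingCat.ofHom (twF (z ^ k₀))) = 𝟙 _ := by
    rw [← Spec.map_comp, ← CommRingCat.ofHom_comp, twF_comp c₀ (z ^ k₀) (by rw [_root_.mul_comm, hc₀]),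
      CommRingCat.ofHom_id, Spec.map_id]
  have hβ : ∀ k : T, (toGen V K _).comp (α k) = (twF (z ^ (k : ℕ))).comp β := fun k => by
    have h : Spec.map (CommRingCat.ofHom ((toGen V K _).comp (α k))) ≫ hU.fromSpec =
        Spec.map (CommRingCat.ofHom ((twF (z ^ (k : ℕ))).comp β)) ≫ hU.fromSpec := by
      simp only [β, CommRingCat.ofHom_comp, Spec.map_comp, Category.assoc, hα]
      refine pullback.hom_ext ?_ ?_
      · simp only [Category.assoc, pZ, ptZ_fst]
        rw [← pt_twist u t y πm z hy, ← pt_twist u t y πm z hy k₀,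
          ← Category.assoc (Spec.map (CommRingCat.ofHom (twF c₀))), hid, Category.id_comp]
      · simp only [Category.assoc, pZ, ptZ_snd]
        rw [← Spec.map_comp, ← Spec.map_comp, ← Spec.map_comp, ← CommRingCat.ofHom_comp, ← CommRingCat.ofHom_comp,
          ← CommRingCat.ofHom_comp, toGen_gaussC, ← RingHom.comp_assoc, ← RingHom.comp_assoc]
        simp only [RingHom.comp_assoc, ← RingHom.comp_assoc _ (genC K _), twF_genC]
    exact congrArg CommRingCat.Hom.hom (Spec.map_injective ((cancel_mono hU.fromSpec).mp h))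
  -- residues of generators are constant outside a finite set
  letI := ρA.toAlgebra
  obtain ⟨gens, hgens⟩ : (⊤ : Subalgebra V A).FG := (hft : Algebra.FiniteType V A).out
  choose E hEfin hE using fun a : A => exists_finite_const hz (β a)
  obtain ⟨k, hkT, hk⟩ := hinf.exists_notMem_finset
    (Finset.biUnion gens fun a => (hEfin a).toFinset)
  simp only [Finset.mem_biUnion, Set.Finite.mem_toFinset, not_exists, not_and] at hk
  -- so the special point of that translate is fixed by the inversion of the torus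
  have hθρ : (invF V (G := Multiplicative L)).comp ((specC V _).comp (IsLocalRing.residue V)) =
      (specC V _).comp (IsLocalRing.residue V) := by rw [← RingHom.comp_assoc, invF_specC]
  have hconst : ∀ a : A, invF V (toSpec V _ (α ⟨k, hkT⟩ a)) = toSpec V _ (α ⟨k, hkT⟩ a) := by
    intro a
    have ha : a ∈ Algebra.adjoin V (gens : Set A) := hgens ▸ Algebra.mem_top
    induction ha using Algebra.adjoin_induction with
    | mem a ha =>
      obtain ⟨c, hc⟩ := hE a k (hk a ha) _ (RingHom.congr_fun (hβ ⟨k, hkT⟩) a)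
      rw [← hc]
      exact RingHom.congr_fun (invF_specC V) c
    | algebraMap b =>
      rw [show toSpec V _ (α ⟨k, hkT⟩ (algebraMap V A b)) = (specC V _).comp (IsLocalRing.residue V) b from
        (congrArg (toSpec V _) (RingHom.congr_fun (hαρ ⟨k, hkT⟩) b)).trans (RingHom.congr_fun (toSpec_gaussC V _) b)]
      exact RingHom.congr_fun hθρ b
    | add a b _ _ ha hb => simp only [map_add, ha, hb]
    | mul a b _ _ ha hb => simp only [map_mul, ha, hb]
  have h1 : Spec.map (CommRingCat.ofHom (invF V)) ≫ Spec.map (CommRingCat.ofHom (toSpec V _)) ≫ pZ k =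
      Spec.map (CommRingCat.ofHom (toSpec V _)) ≫ pZ k := by
    rw [← hα ⟨k, hkT⟩, ← Spec.map_comp_assoc, ← Spec.map_comp_assoc, ← Spec.map_comp_assoc,
      ← CommRingCat.ofHom_comp, ← CommRingCat.ofHom_comp]
    exact congrArg (fun g => Spec.map (CommRingCat.ofHom g) ≫ hU.fromSpec) (RingHom.ext hconst)
  have h2 := congrArg (· ≫ pullback.fst X.hom t) h1
  simp only [Category.assoc, pZ, ptZ_fst] at h2
  rw [pt_natural_left u t y _ (toSpec_gaussC V _), pt_natural_left u t y _ hθρ,
    show (toSpec V _).toMonoidHom.comp ((gaussX V _).comp πm) = (specX V (Multiplicative L)).comp πm from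
      MonoidHom.ext fun m => DFunLike.congr_fun (toSpec_gaussX V _) (πm m)] at h2
  have h3 : pt u t y _ ((invF V).toMonoidHom.comp ((specX V _).comp πm)) k = pt u t y _ ((specX V _).comp πm) k :=
    Over.OverMorphism.ext h2
  rw [pt, pt] at h3
  have h4 := dpt_injective _ ((cancel_mono u).mp (mul_right_cancel h3))
  obtain ⟨l, hl⟩ := exists_ne (0 : L)
  obtain ⟨m, rfl⟩ := hπ l
  have h7 : (Multiplicative.ofAdd (π m))⁻¹ = Multiplicative.ofAdd (π m) :=
    invF_specX_eq V (DFunLike.congr_fun h4 (Multiplicative.ofAdd m))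
  have h8 : v (z (Multiplicative.ofAdd (π m))) = 1 := by
    have h : v (z (Multiplicative.ofAdd (π m))) ^ 2 = 1 := by
      rw [pow_two, ← map_mul, ← map_mul]
      nth_rw 1 [← h7]
      rw [inv_mul_cancel, map_one, map_one]
    rcases lt_trichotomy (v (z (Multiplicative.ofAdd (π m)))) 1 with hlt | heq | hgt
    · exact absurd h (pow_lt_one₀ zero_le hlt two_ne_zero).ne
    · exact heq
    · exact absurd h (one_lt_pow₀ hgt two_ne_zero).ne'
  exact hl (ofAdd_eq_one.mp (hz _ h8))

end Groth.Agent.H21Mono
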