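import Groth.Agent.H21Diag.SubgroupSplit
import Groth.Agent.H21Mono.GaussBound

/-!
A monomorphism from a diagonalisable group to a separated group of finite type: no point escapes integrality.
-/

set_option autoImplicit false
set_option backward.isDefEq.respectTransparency false
set_option maxHeartbeats 1000000
set_option synthInstance.maxHeartbeats 400000
set_option linter.style.haveILetI false

universe u

open CategoryTheory CategoryTheory.Limits MonoidalCategory CartesianMonoidalCategory MonObj GrpObj AlgebraicGeometry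

namespace Groth.Agent.H21Mono

open Groth.Agent.H21Diag (dpt dpt_mul dpt_one dpt_injective)

variable {S : Scheme.{u}} {M : Type} [AddCommGroup M] {X : Over S} [GrpObj X] (u : Red.DS S M ⟶ X) [IsMonHom u]
variable {V : Type u} [CommRing V] (t : Spec (CommRingCat.of V) ⟶ S) (y : Over.mk t ⟶ X)

/-- the structure map of a test algebra -/
noncomputable def qmap {D : Type u} [CommRing D] (ρ : V →+* D) :
    Over.mk (Spec.map (CommRingCat.ofHom ρ) ≫ t) ⟶ Over.mk t :=
  Over.homMk (Spec.map (CommRingCat.ofHom ρ)) rfl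

/-- the change of test algebra -/
noncomputable def dmap {D D' : Type u} [CommRing D] [CommRing D'] {ρ : V →+* D} {ρ' : V →+* D'} (φ : D →+* D')
    (h : φ.comp ρ = ρ') :
    Over.mk (Spec.map (CommRingCat.ofHom ρ') ≫ t) ⟶ Over.mk (Spec.map (CommRingCat.ofHom ρ) ≫ t) :=
  Over.homMk (Spec.map (CommRingCat.ofHom φ)) (by
    subst h
    change Spec.map _ ≫ Spec.map _ ≫ t = Spec.map _ ≫ t
    rw [CommRingCat.ofHom_comp, Spec.map_comp, Category.assoc])

theorem dmap_qmap {D D' : Type u} [CommRing D] [CommRing D'] {ρ : V →+* D} {ρ' : V →+* D'} (φ : D →+* D')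
    (h : φ.comp ρ = ρ') : dmap t φ h ≫ qmap t ρ = qmap t ρ' := by
  refine Over.OverMorphism.ext ?_
  change Spec.map (CommRingCat.ofHom φ) ≫ Spec.map (CommRingCat.ofHom ρ) = Spec.map (CommRingCat.ofHom ρ')
  rw [← Spec.map_comp, ← CommRingCat.ofHom_comp, h]

theorem dmap_dpt {D D' : Type u} [CommRing D] [CommRing D'] {ρ : V →+* D} {ρ' : V →+* D'} (φ : D →+* D')
    (h : φ.comp ρ = ρ') (χ : Multiplicative M →* D) :
    dmap t φ h ≫ dpt (Spec.map (CommRingCat.ofHom ρ) ≫ t) χ =
      dpt (Spec.map (CommRingCat.ofHom ρ') ≫ t) (φ.toMonoidHom.comp χ) := by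
  refine H21Diag.bc_ext ?_
  rw [H21Diag.dpt_fst]
  refine (Category.assoc _ _ _).trans ((congrArg (Spec.map (CommRingCat.ofHom φ) ≫ ·) (H21Diag.dpt_fst _ _)).trans ?_)
  refine (Spec.map_comp _ _).symm.trans (congrArg Spec.map ?_)
  exact CommRingCat.hom_ext (H21Diag.charRingHom_ext fun m => by simp)

/-- the `k`-th translate of the family: `u(ψ) * y^k` -/
noncomputable def pt {D : Type u} [CommRing D] (ρ : V →+* D) (ψ : Multiplicative M →* D) (k : ℕ) :
    Over.mk (Spec.map (CommRingCat.ofHom ρ) ≫ t) ⟶ X :=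
  (dpt _ ψ ≫ u) * (qmap t ρ ≫ y) ^ k

omit [IsMonHom u] in
theorem pt_natural {D D' : Type u} [CommRing D] [CommRing D'] {ρ : V →+* D} {ρ' : V →+* D'} (φ : D →+* D')
    (h : φ.comp ρ = ρ') (ψ : Multiplicative M →* D) (k : ℕ) :
    dmap t φ h ≫ pt u t y ρ ψ k = pt u t y ρ' (φ.toMonoidHom.comp ψ) k := by
  rw [pt, pt, MonObj.comp_mul, ← Category.assoc (dmap t φ h), dmap_dpt, MonObj.comp_pow, ← Category.assoc,
    dmap_qmap]

omit [IsMonHom u] in
theorem pt_natural_left {D D' : Type u} [CommRing D] [CommRing D'] {ρ : V →+* D} {ρ' : V →+* D'} (φ : D →+* D')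
    (h : φ.comp ρ = ρ') (ψ : Multiplicative M →* D) (k : ℕ) :
    Spec.map (CommRingCat.ofHom φ) ≫ (pt u t y ρ ψ k).left = (pt u t y ρ' (φ.toMonoidHom.comp ψ) k).left :=
  congrArg (fun m => m.left) (pt_natural u t y φ h ψ k)

theorem pt_translate {K F : Type u} [CommRing K] [CommRing F] {ρK : V →+* K} {ρ : V →+* F} (φ : K →+* F)
    (h : φ.comp ρK = ρ) (z : Multiplicative M →* K)
    (hz : dpt (Spec.map (CommRingCat.ofHom ρK) ≫ t) z ≫ u = qmap t ρK ≫ y) (ψ : Multiplicative M →* F) (k : ℕ) :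
    pt u t y ρ ((φ.toMonoidHom.comp z) ^ k * ψ) 0 = pt u t y ρ ψ k := by
  have hy : qmap t ρ ≫ y = dpt _ (φ.toMonoidHom.comp z) ≫ u := by
    rw [← dmap_qmap t φ h, Category.assoc, ← hz, ← Category.assoc, dmap_dpt]
  have hp : ∀ n : ℕ, dpt (Spec.map (CommRingCat.ofHom ρ) ≫ t) ((φ.toMonoidHom.comp z) ^ n) ≫ u =
      (qmap t ρ ≫ y) ^ n := by
    intro n
    induction n with
    | zero => rw [pow_zero, pow_zero, dpt_one, MonObj.one_comp]
    | succ n ih => rw [pow_succ, pow_succ, dpt_mul, MonObj.mul_comp, ih, hy]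
  rw [pt, pt, pow_zero, _root_.mul_one, _root_.mul_comm ((φ.toMonoidHom.comp z) ^ k) ψ, dpt_mul, MonObj.mul_comp, hp]

end Groth.Agent.H21Mono
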